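import Groth.Agent.DualTwist.GorensteinDualizing
import Groth.Agent.KFlatLib.Ring.InvertibleTwist
import Groth.Agent.S1786
import Groth.Agent.S1828

/-!
# Gorenstein schemes are those with an invertible dualizing complex
-/

set_option autoImplicit false
set_option linter.style.haveILetI false
set_option backward.isDefEq.respectTransparency false
set_option maxHeartbeats 800000

universe u

open CategoryTheory CategoryTheory.Limits AlgebraicGeometry TopologicalSpace

attribute [local instance] HasDerivedCategory.standard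

noncomputable section

namespace Groth.Agent.DualTwist

open Groth.Agent Groth.Agent.KFlatLib

variable {A : Type u} [CommRing A]

/-- Near a Gorenstein point a dualizing complex is a shift of the ring. -/
theorem exists_away_of_gorenstein {ω : Dual.D A} (hω : Dual.IsDualizing A ω) (p : PrimeSpectrum A)
    (hG : LocCoh.IsGorensteinLocalRing (Localization.AtPrime p.asIdeal)) :
    ∃ (g : A) (_ : g ∉ p.asIdeal) (n : ℤ), ∀ [DTen.HasLBase (algebraMap A (Localization.Away g))],
      Nonempty ((DTen.LBase (algebraMap A (Localization.Away g))).obj ω ≅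
        (Dual.inD (Localization.Away g) (Localization.Away g))⟦n⟧) := by
  haveI := hω.isNoetherianRing
  let B := Localization.AtPrime p.asIdeal
  haveI : Module.Flat A B := IsLocalization.flat B p.asIdeal.primeCompl
  haveI := hasLBase (algebraMap A B)
  haveI := hasLTen B
  haveI := hasRHom (A := B)
  haveI := hG
  obtain ⟨m, ⟨e⟩⟩ := exists_iso_shift_of_isDualizing ((LC.gorenstein_iff_isDualizing B).1 hG)
    (isDualizing_LBase (B := B) hω fun n _ =>
      ⟨n.comap (algebraMap A B), IsLocalization.map_comap p.asIdeal.primeCompl B n⟩)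
  have eH : ∀ i, Nonempty (LocalizedModule p.asIdeal.primeCompl (Dual.HD A ω i) ≃ₗ[B]
      Dual.HD B (Dual.inD B B) (m + i)) := fun i => by
    obtain ⟨a⟩ := exists_hdLBaseLEquiv (B := B) ω i
    obtain ⟨c⟩ := exists_hdShiftLEquiv (Dual.inD B B) m i (m + i) rfl
    exact ⟨((IsLocalizedModule.isBaseChange p.asIdeal.primeCompl B
      (LocalizedModule.mkLinearMap p.asIdeal.primeCompl (Dual.HD A ω i))).equiv.symm.trans a.symm).trans
      (((DerivedCategory.homologyFunctor (ModuleCat.{u} B) i).mapIso e).toLinearEquiv.trans c)⟩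
  have h0 : ∀ i, i ≠ -m → Subsingleton (LocalizedModule p.asIdeal.primeCompl (Dual.HD A ω i)) := fun i hi => by
    haveI : Subsingleton (Dual.HD B (Dual.inD B B) (m + i)) :=
      H9Misc.DRingTel.subsingleton_homology_inD (A := B) B (by omega)
    exact (eH i).some.toEquiv.subsingleton
  haveI := hω.finite_cohomology (-m)
  let g : B ≃ₗ[B] LocalizedModule p.asIdeal.primeCompl (Dual.HD A ω (-m)) :=
    (((eH (-m)).some).trans (eqToIso (show (DerivedCategory.homologyFunctor (ModuleCat.{u} B) (m + -m)).obj (Dual.inD B B) =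
        (DerivedCategory.homologyFunctor (ModuleCat.{u} B) 0).obj (Dual.inD B B) by rw [add_neg_cancel]) ≪≫
      (DerivedCategory.singleFunctorCompHomologyFunctorIso (ModuleCat.{u} B) 0).app (ModuleCat.of B B)).toLinearEquiv).symm
  obtain ⟨x, hx⟩ := S1786.exists_bijective_of_stalk p.asIdeal _ g
  obtain ⟨a, b, -, hGE, hLE⟩ := exists_bounds_of_isDualizing hω
  haveI := hGE
  haveI := hLE
  have hb : ∀ i : ℤ, (i < a ∨ b < i) → Subsingleton (Dual.HD A ω i) := fun i hi => by
    refine ModuleCat.subsingleton_of_isZero ?_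
    rcases hi with hi | hi
    · exact DerivedCategory.isZero_of_isGE ω a i hi
    · exact DerivedCategory.isZero_of_isLE ω b i hi
  obtain ⟨f, hf, hiso⟩ := S1828.exists_spread ω a b (-m) hb hω.finite_cohomology p.asIdeal h0 x hx
  exact ⟨f, hf, - -m, fun {_} => hiso⟩

/-- A ring which is a shifted dualizing complex over itself has Gorenstein local rings. -/
theorem gorenstein_atPrime_of_dualizing {ω : Dual.D A} (hω : Dual.IsDualizing A ω) (n : ℤ)
    (e : ω ≅ (Dual.inD A A)⟦n⟧) (p : PrimeSpectrum A) :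
    LocCoh.IsGorensteinLocalRing (Localization.AtPrime p.asIdeal) := by
  haveI := hω.isNoetherianRing
  let B := Localization.AtPrime p.asIdeal
  haveI : Module.Flat A B := IsLocalization.flat B p.asIdeal.primeCompl
  haveI : IsNoetherianRing B := IsLocalization.isNoetherianRing p.asIdeal.primeCompl B inferInstance
  haveI := hasLBase (algebraMap A B)
  have hA : Dual.IsDualizing A (Dual.inD A A) :=
    isDualizing_of_iso ((shiftFunctor (Dual.D A) (-n)).mapIso e ≪≫ (shiftEquiv (Dual.D A) n).unitIso.symm.app _)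
      (isDualizing_shift hω (-n))
  obtain ⟨u⟩ := S1786.nonempty_LBase_inD_shift (algebraMap A B) 0
  refine (LC.gorenstein_iff_isDualizing B).2 (isDualizing_of_iso ?_ (isDualizing_LBase (B := B) hA fun m _ =>
    ⟨m.comap (algebraMap A B), IsLocalization.map_comap p.asIdeal.primeCompl B m⟩))
  exact (DTen.LBase _).mapIso ((shiftFunctorZero (Dual.D A) ℤ).app _).symm ≪≫ u ≪≫
    (shiftFunctorZero (Dual.D B) ℤ).app _

variable [∀ R : CommRingCat.{u}, PreservesFiniteLimits (tilde.functor R)]

/-- Shifts of the structure sheaf on an affine scheme. -/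
lemma nonempty_tildeD_shift (A : Type u) [CommRing A] (n : ℤ) :
    Nonempty ((DCoh.tildeD (CommRingCat.of A)).obj ((Dual.inD A A)⟦n⟧) ≅
      (DCoh.inD (Spec (CommRingCat.of A)) (Coh.structureModule (Spec (CommRingCat.of A))))⟦n⟧) := by
  haveI : (tilde.functor (CommRingCat.of A)).Additive := tilde_additive _
  obtain ⟨e⟩ := nonempty_tildeD_self A
  exact ⟨((DCoh.tildeD (CommRingCat.of A)).commShiftIso n).app _ ≪≫ (shiftFunctor _ n).mapIso e⟩

/-- Shifts of the structure sheaf restrict. -/
lemma nonempty_rho_shift {X U : Scheme.{u}} (j : U ⟶ X) [IsOpenImmersion j] (n : ℤ) :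
    Nonempty ((rho j).obj ((DCoh.inD X (Coh.structureModule X))⟦n⟧) ≅
      (DCoh.inD U (Coh.structureModule U))⟦n⟧) :=
  ⟨((rho j).commShiftIso n).app _ ≪≫ (shiftFunctor _ n).mapIso
    (((Scheme.Modules.restrictFunctor j).mapDerivedCategorySingleFunctor 0).app (Coh.structureModule X) ≪≫
      (DerivedCategory.singleFunctor _ 0).mapIso (restrictStructureIso j))⟩

variable [∀ (U V : Scheme.{u}) (j : U ⟶ V) [IsOpenImmersion j], PreservesFiniteLimits (Scheme.Modules.restrictFunctor j)]

/-- A scheme with a dualizing complex is Gorenstein iff the complex is invertible. -/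
theorem isGorenstein_iff_invertible (X : Scheme.{u}) [IsLocallyNoetherian X] (K : DCoh.D X)
    (hK : Dual2.IsDualizingSch X K) : Dual3.IsGorenstein X ↔ Dual3.IsInvertibleD K := by
  refine ⟨fun hX x => ?_, fun hI => ⟨inferInstance, fun x => ?_⟩⟩
  · obtain ⟨_, ⟨V, hV, rfl⟩, hxV, -⟩ := X.isBasis_affineOpens.exists_subset_of_mem_open (Set.mem_univ x) isOpen_univ
    let A := Γ(X, V)
    let j : Spec (CommRingCat.of A) ⟶ X := IsAffineOpen.fromSpec hV
    haveI : IsOpenImmersion j := inferInstanceAs (IsOpenImmersion (IsAffineOpen.fromSpec hV))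
    obtain ⟨p, rfl⟩ : x ∈ Set.range j := by
      rw [show Set.range j = _ from IsAffineOpen.range_fromSpec hV]; exact hxV
    obtain ⟨ω, hω, ⟨eω⟩⟩ := hK A j
    haveI := hω.isNoetherianRing
    obtain ⟨g, hg, n, hiso⟩ := exists_away_of_gorenstein hω p ((S3621.point_iff X A j p).1 (hX.2 (j p)))
    let σ := algebraMap A (Localization.Away g)
    haveI := hasLBase σ
    obtain ⟨eg⟩ := hiso
    haveI := H9Misc.DRingLBase.hasLBaseChange σ
    let k := Spec.map (CommRingCat.ofHom σ)
    haveI : IsOpenImmersion k := inferInstance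
    haveI := KFlatLib.hasLpull k
    let l := k ≫ j
    haveI : IsOpenImmersion l := inferInstance
    obtain ⟨t⟩ := nonempty_tildeD_lpull_iso σ
    obtain ⟨b⟩ := nonempty_LBaseChange_iso σ
    obtain ⟨pk⟩ := RBC.nonempty_lpull_rho k
    obtain ⟨c⟩ := nonempty_rho_comp k j l rfl
    obtain ⟨s⟩ := nonempty_tildeD_shift (Localization.Away g) n
    let el : (rho l).obj K ≅ (DCoh.inD _ (Coh.structureModule (Spec (CommRingCat.of (Localization.Away g)))))⟦n⟧ :=
      (c.app K).symm ≪≫ (rho k).mapIso eω ≪≫ (pk.app _).symm ≪≫ (t.app ω).symm ≪≫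
        (DCoh.tildeD _).mapIso (b.app ω ≪≫ eg) ≪≫ s
    have hxl : j p ∈ l.opensRange := by
      have hp : p ∈ Set.range (PrimeSpectrum.comap σ) := by
        rw [PrimeSpectrum.localization_away_comap_range (Localization.Away g) g]
        exact hg
      obtain ⟨q, hq⟩ := hp
      exact ⟨q, (Scheme.Hom.comp_apply k j q).trans (congrArg (fun z => j z) hq)⟩
    refine ⟨l.opensRange, n, hxl, ?_⟩
    obtain ⟨c'⟩ := nonempty_rho_comp l.isoOpensRange.inv l l.opensRange.ι (by simp)
    obtain ⟨s'⟩ := nonempty_rho_shift l.isoOpensRange.inv n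
    exact ⟨(c'.app K).symm ≪≫ (rho l.isoOpensRange.inv).mapIso el ≪≫ s'⟩
  · obtain ⟨U, n, hxU, ⟨e⟩⟩ := hI x
    obtain ⟨_, ⟨V, hV, rfl⟩, hxV, hVU⟩ := X.isBasis_affineOpens.exists_subset_of_mem_open hxU U.isOpen
    let A := Γ(X, V)
    let j : Spec (CommRingCat.of A) ⟶ X := IsAffineOpen.fromSpec hV
    haveI : IsOpenImmersion j := inferInstanceAs (IsOpenImmersion (IsAffineOpen.fromSpec hV))
    have hr : Set.range j = (V : Set X) := IsAffineOpen.range_fromSpec hV
    obtain ⟨p, rfl⟩ : x ∈ Set.range j := by rw [hr]; exact hxV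
    obtain ⟨ω, hω, ⟨eω⟩⟩ := hK A j
    haveI := hω.isNoetherianRing
    let k := IsOpenImmersion.lift U.ι j (by rw [hr, Scheme.Opens.range_ι]; exact hVU)
    haveI : IsOpenImmersion (k ≫ U.ι) := by rw [IsOpenImmersion.lift_fac]; infer_instance
    haveI : IsOpenImmersion k := IsOpenImmersion.of_comp k U.ι
    obtain ⟨c⟩ := nonempty_rho_comp k U.ι j (IsOpenImmersion.lift_fac _ _ _)
    obtain ⟨s'⟩ := nonempty_rho_shift k n
    obtain ⟨s⟩ := nonempty_tildeD_shift A n
    obtain ⟨eA⟩ := nonempty_iso_of_tildeD (eω.symm ≪≫ (c.app K).symm ≪≫ (rho k).mapIso e ≪≫ s' ≪≫ s.symm)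
    exact (S3621.point_iff X A j p).2 (gorenstein_atPrime_of_dualizing hω n eA p)

end Groth.Agent.DualTwist
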