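import Groth.Agent.RBC.TorInd
import Groth.Agent.RBC.Apps
import Groth.Agent.H9Misc.TorBaseChange
import Groth.Agent.TorBridge.LES

/-!
# Base change for a morphism between schemes flat over the base
-/

set_option autoImplicit false
set_option linter.style.haveILetI false
set_option backward.isDefEq.respectTransparency false
set_option maxHeartbeats 600000

universe u

open CategoryTheory CategoryTheory.Limits AlgebraicGeometry TensorProduct

attribute [local instance] HasDerivedCategory.standard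

noncomputable section

namespace Groth.Agent.DualTwist

open Groth.Agent Groth.Agent.KFlatLib

section Ring

variable {R B A R' B' : Type u} [CommRing R] [CommRing B] [CommRing A] [CommRing R'] [CommRing B']

lemma subsingleton_tor_flat_left (M N : Type u) [AddCommGroup M] [Module R M] [AddCommGroup N] [Module R N]
    [Module.Flat R M] (p : ℕ) (hp : 0 < p) : Subsingleton (DRing.Tor R p M N) := by
  obtain ⟨i, rfl⟩ : ∃ i, p = i + 1 := ⟨p - 1, by omega⟩
  exact ModuleCat.isZero_iff_subsingleton.1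
    (TorBridge.isZero_tor_succ_of_flat (ModuleCat.of R M) (ModuleCat.of R N) i)

lemma subsingleton_tor_symm {M N : Type u} [AddCommGroup M] [Module R M] [AddCommGroup N] [Module R N]
    (p : ℕ) (h : Subsingleton (DRing.Tor R p M N)) : Subsingleton (DRing.Tor R p N M) :=
  ModuleCat.isZero_iff_subsingleton.1 (IsZero.of_iso (ModuleCat.isZero_iff_subsingleton.2 h)
    (H9Misc.TorBalance.torSymm (ModuleCat.of R N) (ModuleCat.of R M) p))

/-- Higher `Tor`s vanish between a base change and an algebra, both of flat algebras. -/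
theorem subsingleton_tor_of_flat_over [Algebra R B] [Algebra R A] [Algebra B A] [IsScalarTower R B A]
    [Algebra R R'] [Module.Flat R B] [Module.Flat R A] [Algebra B B'] [Algebra (B ⊗[R] R') B']
    [IsScalarTower B (B ⊗[R] R') B'] [Module.Flat (B ⊗[R] R') B'] (p : ℕ) (hp : 0 < p) :
    Subsingleton (DRing.Tor B p B' A) := by
  choose φ hφ using (show ∀ n, ∃ φ : DRing.Tor R n R' A →ₛₗ[algebraMap R B] DRing.Tor B n (B ⊗[R] R') A,
      Function.Bijective φ from fun n => H9Misc.TorBaseChange.exists_semilinear R B A R'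
      (fun q hq => subsingleton_tor_symm q (subsingleton_tor_flat_left B R' q hq)) n)
  have h₁ : ∀ q, 0 < q → Subsingleton (DRing.Tor B q (B ⊗[R] R') A) := fun q hq => by
    haveI := subsingleton_tor_symm q (subsingleton_tor_flat_left (R := R) A R' q hq)
    exact (hφ q).2.subsingleton
  obtain ⟨ψ, hψ⟩ := H9Misc.TorBaseChange.exists_semilinear B (B ⊗[R] R') B' A
    (fun q hq => subsingleton_tor_symm q (h₁ q hq)) p
  haveI : Subsingleton (DRing.Tor (B ⊗[R] R') p ((B ⊗[R] R') ⊗[B] A) B') :=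
    subsingleton_tor_symm p (subsingleton_tor_flat_left B' _ p hp)
  exact subsingleton_tor_symm p hψ.1.subsingleton

end Ring

attribute [local instance] hasLpull hasRpush_scheme

variable {S S' P P' : Scheme.{u}} {u : P ⟶ S} {g : S' ⟶ S} {q : P' ⟶ S'} {m : P' ⟶ P}

lemma flat_chart (H : IsPullback m q u g) {S₀ : S.Opens} (hS₀ : IsAffineOpen S₀)
    {S₁ : S'.Opens} (hS₁ : IsAffineOpen S₁) (e₁ : S₁ ≤ g ⁻¹ᵁ S₀) {U : P.Opens} (hU : IsAffineOpen U)
    (eU : U ≤ u ⁻¹ᵁ S₀) {W : P'.Opens} (hW : IsAffineOpen W) (eW : W ≤ m ⁻¹ᵁ U) (eW' : W ≤ q ⁻¹ᵁ S₁) :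
    letI := (u.appLE S₀ U eU).hom.toAlgebra
    letI := (g.appLE S₀ S₁ e₁).hom.toAlgebra
    ∃ χ : Γ(P, U) ⊗[Γ(S, S₀)] Γ(S', S₁) →+* Γ(P', W),
      χ.Flat ∧ χ.comp Algebra.TensorProduct.includeLeftRingHom = (m.appLE U W eW).hom := by
  let R := Γ(S, S₀)
  let B := Γ(P, U)
  let R' := Γ(S', S₁)
  algebraize [(u.appLE S₀ U eU).hom, (g.appLE S₀ S₁ e₁).hom]
  have hw : (m.appLE U W eW).hom.comp (algebraMap R B) = (q.appLE S₁ W eW').hom.comp (algebraMap R R') := by
    rw [RingHom.algebraMap_toAlgebra, RingHom.algebraMap_toAlgebra, ← CommRingCat.hom_comp, ← CommRingCat.hom_comp,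
      Scheme.Hom.appLE_comp_appLE, Scheme.Hom.appLE_comp_appLE]
    simp only [H.w]
  letI : Algebra R Γ(P', W) := ((m.appLE U W eW).hom.comp (algebraMap R B)).toAlgebra
  let f₁ : B →ₐ[R] Γ(P', W) := { (m.appLE U W eW).hom with commutes' := fun r => rfl }
  let f₂ : R' →ₐ[R] Γ(P', W) :=
    { (q.appLE S₁ W eW').hom with commutes' := fun r => (RingHom.congr_fun hw r).symm }
  let χ := Algebra.TensorProduct.productMap f₁ f₂
  refine ⟨χ.toRingHom, ?_, ?_⟩
  · let β := Spec.map (CommRingCat.ofHom (algebraMap R B))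
    let r := Spec.map (CommRingCat.ofHom (algebraMap R R'))
    let J : pullback β r ⟶ pullback u g := pullback.map β r u g hU.fromSpec hS₁.fromSpec hS₀.fromSpec
      (IsAffineOpen.SpecMap_appLE_fromSpec u hS₀ hU eU) (IsAffineOpen.SpecMap_appLE_fromSpec g hS₀ hS₁ e₁)
    haveI : IsOpenImmersion J := inferInstanceAs (IsOpenImmersion (pullback.map _ _ _ _ _ _ _ _ _))
    let k : Spec Γ(P', W) ⟶ pullback β r :=
      Spec.map (CommRingCat.ofHom χ.toRingHom) ≫ (pullbackSpecIso R B R').inv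
    have hk₁ : k ≫ pullback.fst β r = Spec.map (m.appLE U W eW) := by
      simp only [k, β, r, Category.assoc, pullbackSpecIso_inv_fst]
      rw [← Spec.map_comp]
      congr 1
      ext b
      simp [χ, f₁]
    have hk₂ : k ≫ pullback.snd β r = Spec.map (q.appLE S₁ W eW') := by
      simp only [k, β, r, Category.assoc, pullbackSpecIso_inv_snd]
      rw [← Spec.map_comp]
      congr 1
      ext b
      simp [χ, f₂]
    have hk : k ≫ J = hW.fromSpec ≫ H.isoPullback.hom := by
      apply pullback.hom_ext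
      · simp only [J, pullback.map, Category.assoc, pullback.lift_fst, IsPullback.isoPullback_hom_fst,
          reassoc_of% hk₁]
        exact IsAffineOpen.SpecMap_appLE_fromSpec m hU hW eW
      · simp only [J, pullback.map, Category.assoc, pullback.lift_snd, IsPullback.isoPullback_hom_snd,
          reassoc_of% hk₂]
        exact IsAffineOpen.SpecMap_appLE_fromSpec q hS₁ hW eW'
    haveI : IsOpenImmersion (k ≫ J) := by rw [hk]; infer_instance
    haveI : IsOpenImmersion k := IsOpenImmersion.of_comp k J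
    haveI : Flat (Spec.map (CommRingCat.ofHom χ.toRingHom)) := by
      have : Spec.map (CommRingCat.ofHom χ.toRingHom) = k ≫ (pullbackSpecIso R B R').hom := by simp [k]
      rw [this]; infer_instance
    exact (HasRingHomProperty.Spec_iff (P := @Flat)).1 ‹_›
  · ext b
    exact Algebra.TensorProduct.productMap_left_apply f₁ f₂ b

variable {X X' : Scheme.{u}} {f : X ⟶ P} {f' : X' ⟶ P'} {m' : X' ⟶ X}

/-- Base change along the base change of a morphism of the base, for a morphism of flat schemes over it. -/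
theorem bc_of_flat_over [QuasiCompact f] [QuasiSeparated f] [Flat u] [Flat (f ≫ u)]
    (H : IsPullback m q u g) (H' : IsPullback m' f' f m) (E : DCoh.D X) (hE : DCoh.IsQCohD E) :
    RBC.BC f m f' m' E := by
  refine RBC.bc_of_local H'.w E fun s => ?_
  obtain ⟨S₀, hS₀, hsS₀, -⟩ :=
    exists_isAffineOpen_mem_and_subset (x := u (m s)) (U := (⊤ : S.Opens)) trivial
  obtain ⟨U, hU, hsU, eU⟩ := exists_isAffineOpen_mem_and_subset (x := m s) (U := u ⁻¹ᵁ S₀) hsS₀
  have hsq : g (q s) ∈ S₀ := by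
    have h : u (m s) = g (q s) := by
      rw [← Scheme.Hom.comp_apply, ← Scheme.Hom.comp_apply, H.w]
    rw [← h]; exact hsS₀
  obtain ⟨S₁, hS₁, hsS₁, e₁⟩ := exists_isAffineOpen_mem_and_subset (x := q s) (U := g ⁻¹ᵁ S₀) hsq
  obtain ⟨W, hW, hsW, eW⟩ := exists_isAffineOpen_mem_and_subset (x := s) (U := m ⁻¹ᵁ U ⊓ q ⁻¹ᵁ S₁) ⟨hsU, hsS₁⟩
  have hle : W ≤ m ⁻¹ᵁ U := fun x hx => (eW hx).1
  have hle' : W ≤ q ⁻¹ᵁ S₁ := fun x hx => (eW hx).2
  refine ⟨U, W, hle, hsW, ?_⟩
  haveI : IsAffine (U : Scheme.{u}) := hU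
  haveI : IsAffine (W : Scheme.{u}) := hW
  haveI : CompactSpace (f ⁻¹ᵁ U : Scheme.{u}) :=
    isCompact_iff_compactSpace.1 (f.isCompact_preimage hU.isCompact)
  haveI : QuasiSeparatedSpace (f ⁻¹ᵁ U : Scheme.{u}) :=
    quasiSeparatedSpace_of_quasiSeparated (f ∣_ U)
  refine RBC.qb_all _ _ _ inferInstance inferInstance _ _ inferInstance inferInstance _ _ _
    (RBC.isPullback_restrict H' hle) (RBC.ti_of_tor f m hU hW hle fun V₀ hV₀ hV p hp => ?_) _
    (isQCohD_lpull _ hE)
  have eV : V₀ ≤ (f ≫ u) ⁻¹ᵁ S₀ := fun x hx => eU (hV hx)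
  have fu : (u.appLE S₀ U eU).hom.Flat := u.flat_appLE hS₀ hU eU
  have fa : ((f ≫ u).appLE S₀ V₀ eV).hom.Flat := (f ≫ u).flat_appLE hS₀ hV₀ eV
  have hcomp : (f.appLE U V₀ hV).hom.comp (u.appLE S₀ U eU).hom = ((f ≫ u).appLE S₀ V₀ eV).hom := by
    rw [← CommRingCat.hom_comp, Scheme.Hom.appLE_comp_appLE]
  obtain ⟨χ, hχ, hχ'⟩ := flat_chart H hS₀ hS₁ e₁ hU eU hW hle hle'
  algebraize [(u.appLE S₀ U eU).hom, (g.appLE S₀ S₁ e₁).hom, (f.appLE U V₀ hV).hom,
    ((f ≫ u).appLE S₀ V₀ eV).hom, (m.appLE U W hle).hom]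
  letI := χ.toAlgebra
  haveI : IsScalarTower Γ(S, S₀) Γ(P, U) Γ(X, V₀) := IsScalarTower.of_algebraMap_eq' hcomp.symm
  haveI : IsScalarTower Γ(P, U) (Γ(P, U) ⊗[Γ(S, S₀)] Γ(S', S₁)) Γ(P', W) :=
    IsScalarTower.of_algebraMap_eq' hχ'.symm
  haveI : Module.Flat (Γ(P, U) ⊗[Γ(S, S₀)] Γ(S', S₁)) Γ(P', W) := hχ
  exact subsingleton_tor_of_flat_over (R := Γ(S, S₀)) (R' := Γ(S', S₁)) p hp

end Groth.Agent.DualTwist
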