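import Mathlib.CategoryTheory.Adjunction.Basic

/-!
# Formal compatibilities of base change maps of right adjoints
-/

set_option autoImplicit false

universe v₁ v₂ v₃ v₄ u₁ u₂ u₃ u₄

open CategoryTheory

namespace Groth.Agent.DualTwist.BcFormal

variable {A : Type u₁} [Category.{v₁} A] {B : Type u₂} [Category.{v₂} B]
  {A' : Type u₃} [Category.{v₃} A'] {B' : Type u₄} [Category.{v₄} B']
  {P : A ⥤ B} {a : B ⥤ A} (adj : P ⊣ a) {P' : A' ⥤ B'} {a' : B' ⥤ A'} (adj' : P' ⊣ a')
  {G : B ⥤ B'} {Q : B' ⥤ B} (ag : G ⊣ Q) {G' : A ⥤ A'} {Q' : A' ⥤ A} (ag' : G' ⊣ Q')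
  (e : Q' ⋙ P ≅ P' ⋙ Q)

/-- The comparison of composed adjoints. -/
abbrev xi (M : B') : Q'.obj (a'.obj M) ⟶ a.obj (Q.obj M) :=
  adj.homEquiv _ _ (e.hom.app (a'.obj M) ≫ Q.map (adj'.counit.app M))

/-- The base change map of direct images. -/
abbrev push (M : A) : G.obj (P.obj M) ⟶ P'.obj (G'.obj M) :=
  (ag.homEquiv _ _).symm (P.map (ag'.unit.app M) ≫ e.hom.app (G'.obj M))

/-- The base change map of right adjoints. -/
noncomputable abbrev bc (K : B) [IsIso (xi adj adj' e (G.obj K))] : G'.obj (a.obj K) ⟶ a'.obj (G.obj K) :=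
  G'.map (a.map (ag.unit.app K)) ≫ G'.map (inv (xi adj adj' e (G.obj K))) ≫
    ag'.counit.app (a'.obj (G.obj K))

/-- Transposing a map through the square. -/
lemma push_comp (M : A) {N : B'} (y : P'.obj (G'.obj M) ⟶ N) :
    push ag ag' e M ≫ y = (ag.homEquiv _ _).symm ((adj.homEquiv _ _).symm
      ((ag'.homEquiv _ _) ((adj'.homEquiv _ _) y) ≫ xi adj adj' e N)) := by
  rw [Adjunction.homEquiv_naturality_left_symm adj, xi, Equiv.symm_apply_apply,
    ← Adjunction.homEquiv_naturality_right_symm, Adjunction.homEquiv_unit ag', Functor.map_comp,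
    Category.assoc, Category.assoc]
  refine congrArg (fun t => (ag.homEquiv _ _).symm (_ ≫ t)) ?_
  have h := e.hom.naturality (adj'.homEquiv _ _ y)
  simp only [Functor.comp_map] at h
  rw [reassoc_of% h, ← Q.map_comp]
  refine congrArg (fun t => e.hom.app _ ≫ Q.map t) ?_
  exact ((adj'.homEquiv_counit ..).symm.trans ((adj'.homEquiv _ _).symm_apply_apply y)).symm

/-- The trace square. -/
lemma push_bc_counit (K : B) [IsIso (xi adj adj' e (G.obj K))] :
    push ag ag' e (a.obj K) ≫ P'.map (bc adj adj' ag ag' e K) ≫ adj'.counit.app (G.obj K) =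
      G.map (adj.counit.app K) := by
  have hb : adj'.homEquiv (G'.obj (a.obj K)) (G.obj K)
      (P'.map (bc adj adj' ag ag' e K) ≫ adj'.counit.app (G.obj K)) = bc adj adj' ag ag' e K :=
    (Equiv.apply_eq_iff_eq_symm_apply _).2 (adj'.homEquiv_counit ..).symm
  have hb' : ag'.homEquiv _ _ (bc adj adj' ag ag' e K) =
      a.map (ag.unit.app K) ≫ inv (xi adj adj' e (G.obj K)) :=
    (Equiv.apply_eq_iff_eq_symm_apply _).2 (by
      rw [Adjunction.homEquiv_counit, Functor.map_comp, Category.assoc])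
  refine (push_comp adj adj' ag ag' e (a.obj K) (N := G.obj K) _).trans ?_
  rw [hb, hb', Category.assoc, IsIso.inv_hom_id, Category.comp_id, Adjunction.homEquiv_counit adj,
    Adjunction.counit_naturality]
  exact (ag.homEquiv_naturality_left_symm (adj.counit.app K) (ag.unit.app K)).trans
    ((congrArg _ (ag.homEquiv_symm_unit K)).trans (Category.comp_id _))

/-- The unit square. -/
lemma unit_bc (hξ : ∀ N, IsIso (xi adj adj' e N)) (M : A) :
    haveI := hξ (G.obj (P.obj M))
    adj'.unit.app (G'.obj M) = G'.map (adj.unit.app M) ≫ bc adj adj' ag ag' e (P.obj M) ≫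
      a'.map (push ag ag' e M) := by
  haveI := hξ (G.obj (P.obj M))
  haveI := hξ (P'.obj (G'.obj M))
  let r : P'.obj (G'.obj M) ⟶ G.obj (P.obj M) :=
    P'.map (G'.map (adj.unit.app M)) ≫ P'.map (bc adj adj' ag ag' e (P.obj M)) ≫ adj'.counit.app _
  have hn : push ag ag' e M ≫ P'.map (G'.map (adj.unit.app M)) =
      G.map (P.map (adj.unit.app M)) ≫ push ag ag' e (a.obj (P.obj M)) := by
    have h := e.hom.naturality (G'.map (adj.unit.app M))
    have h' := ag'.unit.naturality (adj.unit.app M)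
    simp only [Functor.comp_map, Functor.id_map, Functor.id_obj, Functor.comp_obj] at h h'
    refine (ag.homEquiv_naturality_right_symm _ _).symm.trans ?_
    refine Eq.trans ?_ (ag.homEquiv_naturality_left_symm _ _)
    refine congrArg _ ?_
    rw [Category.assoc, ← h, ← P.map_comp_assoc, ← h', P.map_comp_assoc]
  have h1 : push ag ag' e M ≫ r = 𝟙 _ := by
    simp only [r]
    rw [reassoc_of% hn, push_bc_counit, ← G.map_comp, adj.left_triangle_components, G.map_id]
  have h2 : r ≫ push ag ag' e M = 𝟙 _ := by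
    have h3 : push ag ag' e M ≫ r ≫ push ag ag' e M = push ag ag' e M ≫ 𝟙 _ := by
      rw [reassoc_of% h1, Category.comp_id]
    rw [push_comp adj adj' ag ag' e, push_comp adj adj' ag ag' e] at h3
    exact (adj'.homEquiv _ _).injective ((ag'.homEquiv _ _).injective ((cancel_mono _).1
      ((adj.homEquiv _ _).symm.injective ((ag.homEquiv _ _).symm.injective h3))))
  rw [← Category.assoc, ← Adjunction.homEquiv_id adj', ← h2, Adjunction.homEquiv_naturality_right]
  refine congrArg (· ≫ _) ?_
  simp only [r]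
  rw [← P'.map_comp_assoc, ← Adjunction.homEquiv_counit, Equiv.apply_symm_apply]

end Groth.Agent.DualTwist.BcFormal
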