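import Groth.Agent.DualTwist.ClosedImm

/-!
# `RHom(O_Z, -)` for a closed immersion
-/

set_option autoImplicit false
set_option linter.style.haveILetI false
set_option backward.isDefEq.respectTransparency false
set_option backward.isDefEq.respectTransparency.types false
set_option maxHeartbeats 800000
set_option synthInstance.maxHeartbeats 400000

universe u

open CategoryTheory CategoryTheory.Limits AlgebraicGeometry

attribute [local instance] HasDerivedCategory.standard

noncomputable section

namespace Groth.Agent.DualTwist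

open Groth.Agent Groth.Agent.KFlatLib

variable {Z X : Scheme.{u}} (i : Z ⟶ X) [IsClosedImmersion i] [Dual3.HasHomO i]
  [EnoughInjectives X.Modules]

/-- `i_* RHom(O_Z, -) ≅ RHom(i_*O_Z, -)`. -/
theorem nonempty_pushD_RHomOPlus [PreservesFiniteLimits (Scheme.Modules.pushforward i)]
    [PreservesFiniteColimits (Scheme.Modules.pushforward i)]
    (E : CochainComplex X.Modules ℤ)
    (hE : Nonempty (DCoh.toD X E ≅ DCoh.inD X ((Scheme.Modules.pushforward i).obj (Coh.structureModule Z))))
    [DCoh.HasLTensorCx E] [DCoh.HasRSheafHom E] :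
    Nonempty (Dual3.RHomOPlus i ⋙ (DerivedCategory.Plus.ι : DerivedCategory.Plus Z.Modules ⥤ DCoh.D Z) ⋙
        Dual3.pushD i ≅
      (DerivedCategory.Plus.ι : DerivedCategory.Plus X.Modules ⥤ DCoh.D X) ⋙ DCoh.RSheafHom E) := by
  haveI := TriCat.qh_isLeftAdjoint_of_exists_resolution (A := X.Modules) exists_kInjective_res
  let adjQ := Adjunction.ofIsLeftAdjoint (DerivedCategory.Qh (C := X.Modules))
  let adD := H9Misc.AdjDescend.derivedAdj (Dual3.homOAdj i) adjQ
  let R : DCoh.D X ⥤ DCoh.D Z := (DerivedCategory.Qh.rightAdjoint ⋙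
    (Dual3.homO i).mapHomotopyCategory (ComplexShape.up ℤ)) ⋙ DerivedCategory.Qh
  haveI := hasRpush_scheme i
  haveI : ∀ C, IsIso ((rpushUnit i).app C) := isIso_rpushUnit_closed i
  haveI := NatIso.isIso_of_isIso_app (rpushUnit i)
  letI : Localization.Lifting DerivedCategory.Q (qisX Z) (DerivedCategory.Q ⋙ DCoh.Rpush i) (DCoh.Rpush i) :=
    ⟨Iso.refl _⟩
  let eP : (Scheme.Modules.pushforward i).mapDerivedCategory ≅ DCoh.Rpush i :=
    Localization.liftNatIso DerivedCategory.Q (qisX Z)
      (DerivedCategory.Q ⋙ (Scheme.Modules.pushforward i).mapDerivedCategory)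
      (DerivedCategory.Q ⋙ DCoh.Rpush i) _ _
      ((Scheme.Modules.pushforward i).mapDerivedCategoryFactors ≪≫ asIso (rpushUnit i))
  let adR : DCoh.Rpush i ⊣ R := adD.ofNatIsoLeft eP
  haveI := hasLpull i
  obtain ⟨adf⟩ := nonempty_lpull_rpush_adj i
  obtain ⟨eT⟩ := nonempty_ltensor_closed i E hE
  let eH : R ⋙ DCoh.Rpush i ≅ DCoh.RSheafHom E :=
    ((adf.comp adR).ofNatIsoLeft eT.symm).rightAdjointUniq (DCoh.RSheafHomAdj E)
  obtain ⟨eR⟩ := nonempty_rightDerivedPlus_iso (Dual3.homO i) adjQ
  exact ⟨(Functor.associator _ _ _).symm ≪≫ Functor.isoWhiskerRight eR _ ≪≫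
    Functor.isoWhiskerLeft DerivedCategory.Plus.ι (Functor.isoWhiskerLeft R eP ≪≫ eH)⟩

/-- `RHom(O_Z, -)` has quasi-coherent (coherent) cohomology as soon as `RHom(i_*O_Z, -)` has. -/
theorem exists_hd_RHomOPlus (K : DerivedCategory.Plus X.Modules) :
    ∃ (E : CochainComplex X.Modules ℤ) (_ : DCoh.HasLTensorCx E) (_ : DCoh.HasRSheafHom E),
      Nonempty (DCoh.toD X E ≅ DCoh.inD X ((Scheme.Modules.pushforward i).obj (Coh.structureModule Z))) ∧
      ∀ k, Nonempty (DCoh.HD ((DCoh.RSheafHom E).obj K.obj) k ≅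
        (Scheme.Modules.pushforward i).obj (DCoh.HD ((Dual3.RHomOPlus i).obj K).obj k)) := by
  haveI : PreservesFiniteColimits (Scheme.Modules.pushforward i) :=
    ⟨fun J _ _ => preservesColimitsOfShape_push i J⟩
  haveI : PreservesFiniteLimits (Scheme.Modules.pushforward i) := inferInstance
  let E := (HomologicalComplex.single X.Modules (ComplexShape.up ℤ) 0).obj
    ((Scheme.Modules.pushforward i).obj (Coh.structureModule Z))
  haveI := hasLTensorCx E
  haveI := PushAmp.hasRSheafHom E
  let eE : DerivedCategory.Q.obj E ≅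
      DCoh.inD X ((Scheme.Modules.pushforward i).obj (Coh.structureModule Z)) :=
    ((DerivedCategory.singleFunctorIsoCompQ X.Modules 0).app _).symm
  obtain ⟨e⟩ := nonempty_pushD_RHomOPlus i E ⟨eE⟩
  refine ⟨E, inferInstance, inferInstance, ⟨eE⟩, fun k => ?_⟩
  obtain ⟨e'⟩ := PushAmp.nonempty_hd_pushD i ((Dual3.RHomOPlus i).obj K).obj k
  exact ⟨(DerivedCategory.homologyFunctor X.Modules k).mapIso (e.app K).symm ≪≫ e'⟩

/-- The cohomology sheaves of `i_*O_Z` placed in degree zero are coherent. -/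
theorem isCohD_pushStructure [IsLocallyNoetherian X] (E : CochainComplex X.Modules ℤ)
    (hE : Nonempty (DCoh.toD X E ≅ DCoh.inD X ((Scheme.Modules.pushforward i).obj (Coh.structureModule Z)))) :
    DCoh.IsCohD (DCoh.toD X E) ∧ DerivedCategory.IsLE (DCoh.toD X E) 0 := by
  obtain ⟨eE⟩ := hE
  let M := (Scheme.Modules.pushforward i).obj (Coh.structureModule Z)
  haveI : IsLocallyNoetherian Z := LocallyOfFiniteType.isLocallyNoetherian i
  have hM : Coh.IsCoh M := QCoh.isCoh_pushforward_finite i PushAmp.isCoh_structure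
  have hz : ∀ k : ℤ, k ≠ 0 → IsZero ((DerivedCategory.homologyFunctor X.Modules k).obj (DCoh.inD X M)) :=
    fun k hk =>
    (HomologicalComplex.isZero_single_obj_homology (ComplexShape.up ℤ) 0 _ k hk).of_iso
      ((DerivedCategory.homologyFunctor X.Modules k).mapIso
        ((DerivedCategory.singleFunctorIsoCompQ X.Modules 0).app _) ≪≫
        (DerivedCategory.homologyFunctorFactors X.Modules k).app _)
  refine ⟨fun k => isCoh_of_iso ((DerivedCategory.homologyFunctor _ k).mapIso eE).symm ?_,
    (DerivedCategory.isLE_iff _ 0).2 fun k hk => (hz k (by omega)).of_iso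
      ((DerivedCategory.homologyFunctor _ k).mapIso eE)⟩
  by_cases hk : k = 0
  · subst hk
    exact isCoh_of_iso ((DerivedCategory.singleFunctorCompHomologyFunctorIso X.Modules 0).app _).symm hM
  · exact isCoh_of_isZero (hz k hk)

end Groth.Agent.DualTwist
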