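import Groth.Agent.KFlatLib.Scheme.Adjoint
import Groth.Agent.KFlatLib.Scheme.ProjCx
import Groth.Agent.KFlatLib.Scheme.ProjFormula

/-!
# `Lf^*` and `⊗^L`, naturally; isomorphisms of schemes
-/

set_option autoImplicit false
set_option linter.style.haveILetI false
set_option backward.isDefEq.respectTransparency false
set_option backward.isDefEq.respectTransparency.types false
set_option maxHeartbeats 800000
set_option synthInstance.maxHeartbeats 400000

universe u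

open CategoryTheory CategoryTheory.Limits AlgebraicGeometry

attribute [local instance] HasDerivedCategory.standard

noncomputable section

namespace Groth.Agent.DualTwist

open Groth.Agent Groth.Agent.KFlatLib

variable {X Y : Scheme.{u}}

/-- `- ⊗^L P` through resolutions. -/
lemma nonempty_ltensor_flat (P : CochainComplex Y.Modules ℤ) [DCoh.HasLTensorCx P] :
    Nonempty (DerivedCategory.Q ⋙ DCoh.LTensorCx P ≅
      kRes Y ⋙ (DCoh.tensorCx (X := Y)).flip.obj P ⋙ DerivedCategory.Q) := by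
  let w₂ := Functor.whiskerLeft (kRes Y)
    ((DCoh.tensorCxQ P).totalLeftDerivedCounit DerivedCategory.Q (qisX Y))
  haveI : ∀ N, IsIso (w₂.app N) := fun N => isIso_LTensorCx_counit P (isKFlat_kRes N)
  haveI := NatIso.isIso_of_isIso_app w₂
  exact ⟨Functor.isoWhiskerRight (resQIso Y).symm (DCoh.LTensorCx P) ≪≫ Functor.associator _ _ _ ≪≫
    asIso w₂⟩

/-- `L(𝟙)^* ≅ id`. -/
lemma nonempty_lpull_id [DCoh.HasLpull (𝟙 X)] : Nonempty (DCoh.Lpull (𝟙 X) ≅ 𝟭 (DCoh.D X)) := by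
  let e : pullCx (𝟙 X) ≅ 𝟭 _ := NatIso.mapHomologicalComplex (Scheme.Modules.pullbackId X) (ComplexShape.up ℤ) ≪≫
    Functor.mapHomologicalComplexIdIso X.Modules (ComplexShape.up ℤ)
  letI : Localization.Lifting DerivedCategory.Q (qisX X) (DerivedCategory.Q (C := X.Modules)) (𝟭 (DCoh.D X)) :=
    ⟨Functor.rightUnitor _⟩
  exact ⟨Localization.liftNatIso DerivedCategory.Q (qisX X) (DerivedCategory.Q ⋙ DCoh.Lpull (𝟙 X))
    DerivedCategory.Q _ _ (lpullResIso (𝟙 X) ≪≫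
      Functor.isoWhiskerLeft (kRes X) (Functor.isoWhiskerRight e DerivedCategory.Q) ≪≫ resQIso X)⟩

/-- For an isomorphism, `Rσ_*` inverts `Lσ^*`. -/
lemma nonempty_lpull_rpush_iso (σ : X ≅ Y) [DCoh.HasLpull σ.hom] [DCoh.HasRpush σ.hom] :
    Nonempty (DCoh.Lpull σ.hom ⋙ DCoh.Rpush σ.hom ≅ 𝟭 (DCoh.D Y)) := by
  have h : ∀ {A B : Scheme.{u}} (s : A ≅ B) [DCoh.HasLpull s.hom] [DCoh.HasLpull s.inv],
      Nonempty (DCoh.Lpull s.hom ⋙ DCoh.Lpull s.inv ≅ 𝟭 (DCoh.D B)) := by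
    intro A B s _ _
    haveI := hasLpull (s.inv ≫ s.hom)
    obtain ⟨c⟩ := nonempty_lpull_comp s.inv s.hom
    have h₂ : ∀ (g : B ⟶ B) [DCoh.HasLpull g], g = 𝟙 B → Nonempty (DCoh.Lpull g ≅ 𝟭 (DCoh.D B)) := by
      rintro g _ rfl
      exact nonempty_lpull_id
    obtain ⟨d⟩ := h₂ (s.inv ≫ s.hom) s.inv_hom_id
    exact ⟨c ≪≫ d⟩
  haveI := hasLpull σ.inv
  haveI : DCoh.HasLpull σ.symm.hom := hasLpull _
  haveI : DCoh.HasLpull σ.symm.inv := hasLpull _
  obtain ⟨e₁⟩ := h σ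
  obtain ⟨e₂⟩ := h σ.symm
  let E : DCoh.D Y ≌ DCoh.D X := CategoryTheory.Equivalence.mk (DCoh.Lpull σ.hom) (DCoh.Lpull σ.inv) e₁.symm e₂
  haveI : (DCoh.Lpull σ.hom).IsEquivalence := E.isEquivalence_functor
  obtain ⟨ad⟩ := nonempty_lpull_rpush_adj σ.hom
  exact ⟨(asIso ad.unit).symm⟩

/-- `Lf^*` of a flat twist, on resolutions. -/
lemma nonempty_lpull_twist_left (f : X ⟶ Y) [DCoh.HasLpull f] (P : CochainComplex Y.Modules ℤ)
    (hP : DCoh.IsKFlat P) [DCoh.HasLTensorCx P] :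
    Nonempty (DerivedCategory.Q ⋙ DCoh.LTensorCx P ⋙ DCoh.Lpull f ≅
      kRes Y ⋙ ((DCoh.tensorCx (X := Y)).flip.obj P ⋙ pullCx f) ⋙ DerivedCategory.Q) := by
  obtain ⟨e⟩ := nonempty_ltensor_flat P
  let w₃ := Functor.whiskerLeft (kRes Y ⋙ (DCoh.tensorCx (X := Y)).flip.obj P) (lpullComparison f)
  haveI : ∀ N, IsIso (w₃.app N) := fun N => by
    have h := isIso_lpullComparison f (isKFlat_tensorCx (isKFlat_kRes N) hP)
    simp only [w₃, Functor.whiskerLeft_app, Functor.comp_obj, Functor.flip_obj_obj]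
    exact h
  haveI := NatIso.isIso_of_isIso_app w₃
  exact ⟨(Functor.associator _ _ _).symm ≪≫ Functor.isoWhiskerRight e (DCoh.Lpull f) ≪≫
    Functor.associator _ _ _ ≪≫ Functor.isoWhiskerLeft (kRes Y) (Functor.associator _ _ _) ≪≫
    (Functor.associator _ _ _).symm ≪≫ asIso w₃ ≪≫
    Functor.associator _ _ _ ≪≫ Functor.isoWhiskerLeft (kRes Y) (Functor.associator _ _ _).symm⟩

/-- A flat twist after `Lf^*`, on resolutions. -/
lemma nonempty_lpull_twist_right (f : X ⟶ Y) [DCoh.HasLpull f] (P' : CochainComplex X.Modules ℤ)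
    [DCoh.HasLTensorCx P'] :
    Nonempty (DerivedCategory.Q ⋙ DCoh.Lpull f ⋙ DCoh.LTensorCx P' ≅
      kRes Y ⋙ (pullCx f ⋙ (DCoh.tensorCx (X := X)).flip.obj P') ⋙ DerivedCategory.Q) := by
  let w₄ := Functor.whiskerLeft (kRes Y ⋙ pullCx f)
    ((DCoh.tensorCxQ P').totalLeftDerivedCounit DerivedCategory.Q (qisX X))
  haveI : ∀ N, IsIso (w₄.app N) := fun N =>
    isIso_LTensorCx_counit P' (isKFlat_pullback f (isKFlat_kRes N))
  haveI := NatIso.isIso_of_isIso_app w₄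
  exact ⟨(Functor.associator _ _ _).symm ≪≫ Functor.isoWhiskerRight (lpullResIso f) (DCoh.LTensorCx P') ≪≫
    Functor.associator _ _ _ ≪≫ Functor.isoWhiskerLeft (kRes Y) (Functor.associator _ _ _) ≪≫
    (Functor.associator _ _ _).symm ≪≫ asIso w₄ ≪≫
    Functor.associator _ _ _ ≪≫ Functor.isoWhiskerLeft (kRes Y) (Functor.associator _ _ _).symm⟩

/-- `Lf^*(- ⊗^L L) ≅ Lf^*(-) ⊗^L Lf^*L`, naturally. -/
lemma nonempty_ltensor_lpull (f : X ⟶ Y) [DCoh.HasLpull f] (L : CochainComplex Y.Modules ℤ)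
    [DCoh.HasLTensorCx L] (L' : CochainComplex X.Modules ℤ) [DCoh.HasLTensorCx L']
    (hL' : Nonempty (DerivedCategory.Q.obj L' ≅ (DCoh.Lpull f).obj (DerivedCategory.Q.obj L))) :
    Nonempty (DCoh.LTensorCx L ⋙ DCoh.Lpull f ≅ DCoh.Lpull f ⋙ DCoh.LTensorCx L') := by
  obtain ⟨eL'⟩ := hL'
  let P := (kRes Y).obj L
  have hP : DCoh.IsKFlat P := isKFlat_kRes L
  haveI := isIso_Q_map _ ((flatCover Y).quasiIso_ψ L)
  let eP : DerivedCategory.Q.obj P ≅ DerivedCategory.Q.obj L :=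
    asIso (DerivedCategory.Q.map ((flatCover Y).ψ.app L))
  let P' := (pullCx f).obj P
  haveI := hasLTensorCx P
  haveI := hasLTensorCx P'
  obtain ⟨cP⟩ := nonempty_LTensorCx_congr_D eP
  obtain ⟨cP'⟩ := nonempty_LTensorCx_congr_D (P := P') (E := L')
    ((lpullIso f hP).symm ≪≫ (DCoh.Lpull f).mapIso eP ≪≫ eL'.symm)
  let α : (DCoh.tensorCx (X := Y)).flip.obj P ⋙ pullCx f ≅
      pullCx f ⋙ (DCoh.tensorCx (X := X)).flip.obj P' := (totalMapNatIso (pullTensorBiIso f) P).symm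
  obtain ⟨β⟩ := nonempty_lpull_twist_left f P hP
  obtain ⟨β'⟩ := nonempty_lpull_twist_right f P'
  letI : Localization.Lifting DerivedCategory.Q (qisX Y)
      (DerivedCategory.Q ⋙ DCoh.LTensorCx P ⋙ DCoh.Lpull f) (DCoh.LTensorCx P ⋙ DCoh.Lpull f) :=
    ⟨Iso.refl _⟩
  letI : Localization.Lifting DerivedCategory.Q (qisX Y)
      (DerivedCategory.Q ⋙ DCoh.Lpull f ⋙ DCoh.LTensorCx P') (DCoh.Lpull f ⋙ DCoh.LTensorCx P') :=
    ⟨Iso.refl _⟩
  let γ := β ≪≫ Functor.isoWhiskerLeft (kRes Y) (Functor.isoWhiskerRight α DerivedCategory.Q) ≪≫ β'.symm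
  exact ⟨Functor.isoWhiskerRight cP.symm (DCoh.Lpull f) ≪≫
    Localization.liftNatIso DerivedCategory.Q (qisX Y) _ _ _ _ γ ≪≫
    Functor.isoWhiskerLeft (DCoh.Lpull f) cP'⟩

/-- Gluing an adjunction between full subcategories. -/
lemma nonempty_adj_glue {A A' B C C' : Type*} [Category A] [Category A'] [Category B] [Category C] [Category C']
    (ιA : A ⥤ A') [ιA.Full] [ιA.Faithful] (ιC : C ⥤ C') [ιC.Full] [ιC.Faithful]
    {L₀ : A' ⥤ C'} {R₀ : C' ⥤ A'} (ad₀ : L₀ ⊣ R₀) (L₁ : A ⥤ C) (e₁ : L₁ ⋙ ιC ≅ ιA ⋙ L₀)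
    {F : C ⥤ B} {G : B ⥤ C} (ad : F ⊣ G) (R : B ⥤ A) (e₂ : G ⋙ ιC ⋙ R₀ ≅ R ⋙ ιA) :
    Nonempty (L₁ ⋙ F ⊣ R) := by
  let E := fun M N => (ad.homEquiv (L₁.obj M) N).trans
    ((Functor.FullyFaithful.ofFullyFaithful ιC).homEquiv.trans
      ((Iso.homCongr (e₁.app M) (Iso.refl _)).trans
        ((ad₀.homEquiv _ _).trans
          ((Iso.homCongr (Iso.refl _) (e₂.app N)).trans
            (Functor.FullyFaithful.ofFullyFaithful ιA).homEquiv.symm))))
  have key : ∀ {M M' : A} {N : B} (g : M ⟶ M') (k : F.obj (L₁.obj M') ⟶ N),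
      E M N (F.map (L₁.map g) ≫ k) = g ≫ E M' N k := by
    intro M M' N g k
    apply ιA.map_injective
    have n₁ : e₁.inv.app M ≫ ιC.map (L₁.map g) = L₀.map (ιA.map g) ≫ e₁.inv.app M' :=
      (e₁.inv.naturality g).symm
    simp [E, Iso.homCongr, ad.homEquiv_naturality_left, reassoc_of% n₁, ad₀.homEquiv_naturality_left]
  have key' : ∀ {M : A} {N N' : B} (k : F.obj (L₁.obj M) ⟶ N) (h : N ⟶ N'),
      E M N' (k ≫ h) = E M N k ≫ R.map h := by
    intro M N N' k h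
    apply ιA.map_injective
    have n₂ := e₂.hom.naturality h
    simp only [Functor.comp_map] at n₂
    simp [E, Iso.homCongr, Adjunction.homEquiv_unit, n₂]
  refine ⟨Adjunction.mkOfHomEquiv
    { homEquiv := E
      homEquiv_naturality_left_symm := fun {M M' N} g h => (Equiv.symm_apply_eq _).2
        (((key g ((E M' N).symm h)).trans (congrArg (g ≫ ·) ((E M' N).apply_symm_apply h))).symm)
      homEquiv_naturality_right := fun {M N N'} k h => key' k h }⟩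

end Groth.Agent.DualTwist
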