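import Groth.Agent.DualTwist.Main
import Groth.Agent.DualTwist.Transport
import Groth.Agent.KFlatLib.Scheme.BidualPerfect
import Groth.Agent.AdjTwist.Comparison

/-!
# Duals of perfect complexes and right adjoints of `Rf_*`
-/

set_option autoImplicit false
set_option linter.style.haveILetI false
set_option backward.isDefEq.respectTransparency false
set_option backward.isDefEq.respectTransparency.types false
set_option maxHeartbeats 800000
set_option synthInstance.maxHeartbeats 400000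

universe u

open CategoryTheory CategoryTheory.Limits AlgebraicGeometry

attribute [local instance] HasDerivedCategory.standard

noncomputable section

namespace Groth.Agent.DualTwist

open Groth.Agent Groth.Agent.KFlatLib

variable {X Y : Scheme.{u}}

/-- `- ⊗^L O ≅ id`. -/
lemma nonempty_ltensor_unit [DCoh.HasLTensorCx (AdjTwist.strO X)] :
    Nonempty (DCoh.LTensorCx (AdjTwist.strO X) ≅ 𝟭 (DCoh.D X)) := by
  obtain ⟨e⟩ := nonempty_ltensor_kRes (AdjTwist.strO X)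
  letI : Localization.Lifting DerivedCategory.Q (qisX X) (DerivedCategory.Q (C := X.Modules)) (𝟭 (DCoh.D X)) :=
    ⟨Functor.rightUnitor _⟩
  exact ⟨Localization.liftNatIso DerivedCategory.Q (qisX X) (DerivedCategory.Q ⋙ DCoh.LTensorCx (AdjTwist.strO X))
    DerivedCategory.Q _ _ (e ≪≫ Functor.isoWhiskerLeft (kRes X)
      (Functor.isoWhiskerRight (AdjTwist.unitV (Y := X)) DerivedCategory.Q) ≪≫ resQIso X)⟩

/-- `RHom(O, -) ≅ id`. -/
lemma nonempty_rhom_unit [DCoh.HasLTensorCx (AdjTwist.strO X)] [DCoh.HasRSheafHom (AdjTwist.strO X)] :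
    Nonempty (DCoh.RSheafHom (AdjTwist.strO X) ≅ 𝟭 (DCoh.D X)) := by
  obtain ⟨e⟩ := nonempty_ltensor_unit (X := X)
  exact ⟨((DCoh.RSheafHomAdj (AdjTwist.strO X)).ofNatIsoLeft e).rightAdjointUniq Adjunction.id⟩

/-- Swapping the two factors of `⊗^L`. -/
lemma nonempty_ltensor_swap (A B : CochainComplex X.Modules ℤ) [DCoh.HasLTensorCx A] [DCoh.HasLTensorCx B] :
    Nonempty ((DCoh.LTensorCx B).obj (DerivedCategory.Q.obj A) ≅
      (DCoh.LTensorCx A).obj (DerivedCategory.Q.obj B)) := by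
  let A' := (kRes X).obj A
  let B' := (kRes X).obj B
  haveI := isIso_Q_map _ ((flatCover X).quasiIso_ψ A)
  haveI := isIso_Q_map _ ((flatCover X).quasiIso_ψ B)
  let eA : DerivedCategory.Q.obj A' ≅ DerivedCategory.Q.obj A := asIso (DerivedCategory.Q.map ((flatCover X).ψ.app A))
  let eB : DerivedCategory.Q.obj B' ≅ DerivedCategory.Q.obj B := asIso (DerivedCategory.Q.map ((flatCover X).ψ.app B))
  haveI := hasLTensorCx A'
  haveI := hasLTensorCx B'
  obtain ⟨cA⟩ := nonempty_LTensorCx_congr_D eA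
  obtain ⟨cB⟩ := nonempty_LTensorCx_congr_D eB
  exact ⟨(DCoh.LTensorCx B).mapIso eA.symm ≪≫ cB.symm.app _ ≪≫ ltensorCxIso B' (isKFlat_kRes A) ≪≫
    DerivedCategory.Q.mapIso (braidCx A' B') ≪≫ (ltensorCxIso A' (isKFlat_kRes B)).symm ≪≫
    cA.app _ ≪≫ (DCoh.LTensorCx A).mapIso eB⟩

/-- A perfect object has a dual, with mutually adjoint twists. -/
lemma exists_dual (K : CochainComplex X.Modules ℤ) [DCoh.HasLTensorCx K]
    (hK : DCoh.IsPerfect (DerivedCategory.Q.obj K)) :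
    ∃ (D : CochainComplex X.Modules ℤ) (_ : DCoh.HasLTensorCx D),
      DCoh.IsPerfect (DerivedCategory.Q.obj D) ∧ Nonempty (DCoh.LTensorCx K ⊣ DCoh.LTensorCx D) ∧
        Nonempty (DCoh.LTensorCx D ⊣ DCoh.LTensorCx K) := by
  haveI := PushAmp.hasRSheafHom K
  let O := AdjTwist.strO X
  haveI := hasLTensorCx O
  haveI := PushAmp.hasRSheafHom O
  let D := DerivedCategory.Q.objPreimage ((DCoh.RSheafHom K).obj (DerivedCategory.Q.obj O))
  let eD : DerivedCategory.Q.obj D ≅ (DCoh.RSheafHom K).obj (DerivedCategory.Q.obj O) :=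
    DerivedCategory.Q.objObjPreimageIso _
  haveI := hasLTensorCx D
  haveI := PushAmp.hasRSheafHom D
  have hD : DCoh.IsPerfect (DerivedCategory.Q.obj D) :=
    DQGen.isPerfect_of_iso ((DCoh.RSheafHom K).mapIso AdjTwist.strOIso.symm ≪≫ eD.symm)
      (isPerfect_RSheafHom_structure K hK)
  obtain ⟨u₀⟩ := nonempty_ltensor_unit (X := X)
  obtain ⟨r₀⟩ := nonempty_rhom_unit (X := X)
  obtain ⟨tK⟩ := nonempty_twistDual K hK O D ⟨eD⟩
  let K₁ := (kRes X).obj K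
  haveI hψ := isIso_Q_map _ ((flatCover X).quasiIso_ψ K)
  let e₁ : DerivedCategory.Q.obj K₁ ≅ DerivedCategory.Q.obj K :=
    asIso (DerivedCategory.Q.map ((flatCover X).ψ.app K))
  haveI := hasLTensorCx K₁
  haveI := PushAmp.hasRSheafHom K₁
  obtain ⟨c₁⟩ := nonempty_LTensorCx_congr_D e₁
  let eR : DCoh.RSheafHom K ≅ DCoh.RSheafHom K₁ :=
    ((DCoh.RSheafHomAdj K).ofNatIsoLeft c₁.symm).rightAdjointUniq (DCoh.RSheafHomAdj K₁)
  obtain ⟨b⟩ := nonempty_ltensor_RSheafHom_iso K₁ O (isKFlat_kRes K) (DQGen.isPerfect_of_iso e₁.symm hK)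
    D ⟨eD ≪≫ eR.app _⟩ (DerivedCategory.Q.obj O)
  obtain ⟨s⟩ := nonempty_ltensor_swap O K₁
  let eK : DerivedCategory.Q.obj K ≅ (DCoh.RSheafHom D).obj (DerivedCategory.Q.obj O) :=
    e₁.symm ≪≫ (u₀.app _).symm ≪≫ s.symm ≪≫ (DCoh.LTensorCx K₁).mapIso (r₀.app _).symm ≪≫ b
  obtain ⟨tD⟩ := nonempty_twistDual D hD O K ⟨eK⟩
  exact ⟨D, inferInstance, hD,
    ⟨(DCoh.RSheafHomAdj K).ofNatIsoRight (Functor.isoWhiskerRight u₀.symm _ ≪≫ tK)⟩,
    ⟨(DCoh.RSheafHomAdj D).ofNatIsoRight (Functor.isoWhiskerRight u₀.symm _ ≪≫ tD)⟩⟩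

/-- Restricting a twist to `D_QCoh`. -/
abbrev twistQ (K : CochainComplex X.Modules ℤ) [DCoh.HasLTensorCx K]
    (hK : DCoh.IsQCohD (DerivedCategory.Q.obj K)) : DCoh.DQCoh X ⥤ DCoh.DQCoh X :=
  ObjectProperty.lift DCoh.IsQCohD (ObjectProperty.ι DCoh.IsQCohD ⋙ DCoh.LTensorCx K)
    (fun N => isQCohD_ltensor K hK N.property)

/-- **`a(K ⊗^L L) ≅ Lf^*K ⊗^L a(L)` for perfect `K`.** -/
theorem nonempty_rightAdjoint_twist (f : X ⟶ Y) [DCoh.HasRpush f] (hf : DCoh.RpushPreservesQCoh f)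
    (a : DCoh.DQCoh Y ⥤ DCoh.DQCoh X) (adj : DCoh.RpushQ f hf ⊣ a) [DCoh.HasLpull f]
    (K L : DCoh.DQCoh Y) (hK : DCoh.IsPerfect K.obj) (K' : CochainComplex Y.Modules ℤ)
    (hK' : Nonempty (DCoh.toD Y K' ≅ K.obj)) [DCoh.HasLTensorCx K']
    (hKL : DCoh.IsQCohD ((DCoh.LTensorCx K').obj L.obj)) (E : CochainComplex X.Modules ℤ)
    (hE : Nonempty (DCoh.toD X E ≅ (a.obj L).obj)) [DCoh.HasLTensorCx E] :
    Nonempty ((a.obj ⟨(DCoh.LTensorCx K').obj L.obj, hKL⟩).obj ≅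
      (DCoh.LTensorCx E).obj ((DCoh.Lpull f).obj K.obj)) := by
  obtain ⟨eK'⟩ := hK'
  obtain ⟨eE⟩ := hE
  have hKp : DCoh.IsPerfect (DerivedCategory.Q.obj K') := DQGen.isPerfect_of_iso eK'.symm hK
  let K'' := DerivedCategory.Q.objPreimage ((DCoh.Lpull f).obj (DerivedCategory.Q.obj K'))
  let eK'' : DerivedCategory.Q.obj K'' ≅ (DCoh.Lpull f).obj (DerivedCategory.Q.obj K') :=
    DerivedCategory.Q.objObjPreimageIso _
  haveI := hasLTensorCx K''
  have hKp'' : DCoh.IsPerfect (DerivedCategory.Q.obj K'') :=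
    DQGen.isPerfect_of_iso eK''.symm (isPerfect_lpull f hKp)
  obtain ⟨D, iD, hD, ⟨adK⟩, ⟨adD⟩⟩ := exists_dual K' hKp
  obtain ⟨D', iD', hD', ⟨adK'⟩, ⟨adD'⟩⟩ := exists_dual K'' hKp''
  obtain ⟨c⟩ := nonempty_ltensor_lpull f K' K'' ⟨eK''⟩
  obtain ⟨adf⟩ := nonempty_lpull_rpush_adj f
  -- the projection formula, by adjunction
  let π : DCoh.LTensorCx D' ⋙ DCoh.Rpush f ≅ DCoh.Rpush f ⋙ DCoh.LTensorCx D :=
    (((adK.comp adf).ofNatIsoLeft c).rightAdjointUniq (adf.comp adK')).symm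
  have qD := DQGen.isQCohD_of_isPerfect hD
  have qD' := DQGen.isQCohD_of_isPerfect hD'
  have qK := DQGen.isQCohD_of_isPerfect hKp
  have qK'' := DQGen.isQCohD_of_isPerfect hKp''
  let adQ : twistQ D qD ⊣ twistQ K' qK :=
    adD.restrictFullyFaithful (ObjectProperty.fullyFaithfulι _) (ObjectProperty.fullyFaithfulι _)
      (Iso.refl _) (Iso.refl _)
  let adQ' : twistQ D' qD' ⊣ twistQ K'' qK'' :=
    adD'.restrictFullyFaithful (ObjectProperty.fullyFaithfulι _) (ObjectProperty.fullyFaithfulι _)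
      (Iso.refl _) (Iso.refl _)
  let πQ : twistQ D' qD' ⋙ DCoh.RpushQ f hf ≅ DCoh.RpushQ f hf ⋙ twistQ D qD :=
    ((DCoh.IsQCohD (X := Y)).fullyFaithfulι.whiskeringRight _).preimageIso
      (Functor.isoWhiskerLeft (DCoh.IsQCohD (X := X)).ι π)
  let e : twistQ K' qK ⋙ a ≅ a ⋙ twistQ K'' qK'' :=
    ((adj.comp adQ).ofNatIsoLeft πQ.symm).rightAdjointUniq (adQ'.comp adj)
  obtain ⟨s⟩ := nonempty_ltensor_swap E K''
  exact ⟨(ObjectProperty.ι _).mapIso (e.app L) ≪≫ (DCoh.LTensorCx K'').mapIso eE.symm ≪≫ s ≪≫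
    (DCoh.LTensorCx E).mapIso (eK'' ≪≫ (DCoh.Lpull f).mapIso eK')⟩

end Groth.Agent.DualTwist
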