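import Groth.Agent.AdjTwist.Main
import Groth.Agent.DualTwist.PerfectTwist
import Groth.Agent.KFlatLib.Scheme.RHomBounded
import Groth.Agent.KFlatLib.Scheme.CohD
import Groth.Agent.PushAmp.Adjoint
import Groth.Prelude.Def_Dual3

/-!
# Duality for a finite morphism
-/

set_option autoImplicit false
set_option linter.style.haveILetI false
set_option backward.isDefEq.respectTransparency false
set_option backward.isDefEq.respectTransparency.types false
set_option maxHeartbeats 800000
set_option synthInstance.maxHeartbeats 400000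

universe u

open CategoryTheory CategoryTheory.Limits AlgebraicGeometry

attribute [local instance] HasDerivedCategory.standard

noncomputable section

namespace Groth.Agent.DualTwist

open Groth.Agent Groth.Agent.KFlatLib

variable {X Y : Scheme.{u}}

/-- Twisting by `f_*O` is `Rf_* Lf^*` on `D_QCoh`, for affine `f`. -/
lemma nonempty_ltensor_affine (f : Y ⟶ X) [IsAffineHom f] [DCoh.HasRpush f] [DCoh.HasLpull f]
    [QuasiCompact f] [QuasiSeparated f]
    (E : CochainComplex X.Modules ℤ) [DCoh.HasLTensorCx E]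
    (hE : Nonempty (DerivedCategory.Q.obj E ≅
      DCoh.inD X ((Scheme.Modules.pushforward f).obj (Coh.structureModule Y)))) :
    Nonempty (ObjectProperty.ι DCoh.IsQCohD ⋙ DCoh.LTensorCx E ≅
      ObjectProperty.ι DCoh.IsQCohD ⋙ DCoh.Lpull f ⋙ DCoh.Rpush f) := by
  obtain ⟨eE⟩ := hE
  obtain ⟨J, s, hJ, hs⟩ := exists_kInjective_res (AdjTwist.strO Y)
  haveI := hJ
  haveI := hs
  haveI := isIso_Q_map s hs
  have hJq : DCoh.IsQCohD (DerivedCategory.Q.obj J) :=
    isQCohD_of_iso (asIso (DerivedCategory.Q.map s)) AdjTwist.isQCohD_strO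
  let R := (kRes X).obj ((pushCxF f).obj J)
  let r : R ⟶ (pushCxF f).obj J := (flatCover X).ψ.app _
  haveI : QuasiIso r := (flatCover X).quasiIso_ψ _
  haveI := isIso_Q_map r inferInstance
  haveI := hasLTensorCx R
  haveI := hasLTensorCx J
  let O := AdjTwist.strO Y
  haveI := hasLTensorCx O
  haveI hO : IsIso ((rpushUnit f).app O) := (isIso_rpushUnit_iff f O).2
    (isIso_unit_of_isAffineHom f O fun n => by
      by_cases hn : n = 0
      · subst hn
        exact isQCoh_of_iso (HomologicalComplex.singleObjXSelf (ComplexShape.up ℤ) 0 _).symm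
          QCoh.isQCoh_structureModule
      · exact isQCoh_of_isZero (HomologicalComplex.isZero_single_obj_X (ComplexShape.up ℤ) 0 _ n hn))
  haveI := isIso_rpushUnit_of_kInjective f J
  let eP : DerivedCategory.Q.obj ((pushCxF f).obj J) ≅ DerivedCategory.Q.obj E :=
    asIso ((rpushUnit f).app J) ≪≫ ((DCoh.Rpush f).mapIso (asIso (DerivedCategory.Q.map s))).symm ≪≫
      (asIso ((rpushUnit f).app O)).symm ≪≫
      DerivedCategory.Q.mapIso ((HomologicalComplex.singleMapHomologicalComplex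
        (Scheme.Modules.pushforward f) _ 0).app _) ≪≫
      ((DerivedCategory.singleFunctorIsoCompQ X.Modules 0).app _).symm ≪≫ eE.symm
  obtain ⟨cE⟩ := nonempty_LTensorCx_congr_D (P := R) (E := E) (asIso (DerivedCategory.Q.map r) ≪≫ eP)
  obtain ⟨cO⟩ := nonempty_LTensorCx_congr_D (P := J) (E := O) (asIso (DerivedCategory.Q.map s)).symm
  obtain ⟨u₀⟩ := nonempty_ltensor_unit (X := Y)
  obtain ⟨eH⟩ := AdjTwist.nonempty_projH_iso f J
  obtain ⟨eT⟩ := nonempty_ltensor_flat R
  letI : Localization.Lifting DerivedCategory.Q (qisX X) (DerivedCategory.Q ⋙ projF R) (projF R) :=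
    ⟨Iso.refl _⟩
  let eF : DCoh.LTensorCx R ≅ projF R := Localization.liftNatIso DerivedCategory.Q (qisX X)
    (DerivedCategory.Q ⋙ DCoh.LTensorCx R) (DerivedCategory.Q ⋙ projF R) _ _
    (eT ≪≫ Functor.isoWhiskerLeft (kRes X)
      (Functor.isoWhiskerRight (symmIso (tensorBiFlipIso X) R) DerivedCategory.Q) ≪≫
      (kLiftFac (kRespects_tensor R)).symm)
  let θ := Functor.whiskerLeft (DCoh.IsQCohD (X := X)).ι (projθ f J r)
  haveI : ∀ K, IsIso (θ.app K) := fun K => by
    let eK := DerivedCategory.Q.objObjPreimageIso K.obj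
    exact (NatTrans.isIso_app_iff_of_iso (projθ f J r) eK).1
      (isIso_projθ f J r (isKFlat_kRes _) hJq _ (isQCohD_of_iso eK.symm K.property))
  haveI := NatIso.isIso_of_isIso_app θ
  exact ⟨Functor.isoWhiskerLeft _ (cE.symm ≪≫ eF) ≪≫ asIso θ ≪≫
    Functor.isoWhiskerLeft _ (Functor.isoWhiskerRight
      (eH ≪≫ Functor.isoWhiskerLeft _ (cO ≪≫ u₀) ≪≫ Functor.rightUnitor _) (DCoh.Rpush f))⟩

/-- **Duality for a finite morphism**: `Rf_* a ≅ RHom(f_*O, -)` on `D^+_QCoh`. -/
theorem nonempty_finite_duality [IsNoetherian X] [IsNoetherian Y] (f : Y ⟶ X) [IsFinite f]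
    [DCoh.HasRpush f] (hf : DCoh.RpushPreservesQCoh f) (a : DCoh.DQCoh X ⥤ DCoh.DQCoh Y)
    (adj : DCoh.RpushQ f hf ⊣ a) (E : CochainComplex X.Modules ℤ)
    (hE : Nonempty (DCoh.toD X E ≅ DCoh.inD X ((Scheme.Modules.pushforward f).obj (Coh.structureModule Y))))
    [DCoh.HasLTensorCx E] [DCoh.HasRSheafHom E] :
    Nonempty (Dual3.bddι X ⋙ a ⋙ DCoh.RpushQ f hf ⋙ ObjectProperty.ι _ ≅
      Dual3.bddι X ⋙ ObjectProperty.ι _ ⋙ DCoh.RSheafHom E) := by
  obtain ⟨eE⟩ := hE
  haveI := hasLpull f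
  obtain ⟨e⟩ := nonempty_ltensor_affine f E ⟨eE⟩
  obtain ⟨adf⟩ := nonempty_lpull_rpush_adj f
  let ιX := (DCoh.IsQCohD (X := X)).ι
  let ιY := (DCoh.IsQCohD (X := Y)).ι
  have hM : Coh.IsCoh ((Scheme.Modules.pushforward f).obj (Coh.structureModule Y)) :=
    QCoh.isCoh_pushforward_finite f PushAmp.isCoh_structure
  have hz : ∀ k : ℤ, k ≠ 0 → IsZero ((DerivedCategory.homologyFunctor X.Modules k).obj
      (DCoh.inD X ((Scheme.Modules.pushforward f).obj (Coh.structureModule Y)))) := fun k hk =>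
    (HomologicalComplex.isZero_single_obj_homology (ComplexShape.up ℤ) 0 _ k hk).of_iso
      ((DerivedCategory.homologyFunctor X.Modules k).mapIso
        ((DerivedCategory.singleFunctorIsoCompQ X.Modules 0).app _) ≪≫
        (DerivedCategory.homologyFunctorFactors X.Modules k).app _)
  have hEc : ∀ k, Coh.IsCoh (DCoh.HD (DerivedCategory.Q.obj E) k) := fun k => by
    refine isCoh_of_iso ((DerivedCategory.homologyFunctor _ k).mapIso eE).symm ?_
    by_cases hk : k = 0
    · subst hk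
      exact isCoh_of_iso
        ((DerivedCategory.singleFunctorCompHomologyFunctorIso X.Modules 0).app _).symm hM
    · exact isCoh_of_isZero (hz k hk)
  have hpc : ∀ m : ℤ, DCoh.IsPseudoCoherentD m (DCoh.toD X E) := fun m =>
    (isPseudoCoherentD_iff _ _).2 (locPC_of_coh (fun k => (hEc k).1) (fun k _ => hEc k) 0 fun k hk =>
      (hz k (by omega)).of_iso
        ((DerivedCategory.homologyFunctor _ k).mapIso eE))
  have hEq : DCoh.IsQCohD (DerivedCategory.Q.obj E) := fun k => (hEc k).1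
  let LfQ : DCoh.DQCoh X ⥤ DCoh.DQCoh Y :=
    ObjectProperty.lift DCoh.IsQCohD (ιX ⋙ DCoh.Lpull f) fun N => isQCohD_lpull f N.property
  let adQ : LfQ ⊣ DCoh.RpushQ f hf :=
    adf.restrictFullyFaithful (ObjectProperty.fullyFaithfulι _) (ObjectProperty.fullyFaithfulι _)
      (Iso.refl _) (Iso.refl _)
  let eQ : twistQ E hEq ≅ LfQ ⋙ DCoh.RpushQ f hf :=
    ((DCoh.IsQCohD (X := X)).fullyFaithfulι.whiskeringRight _).preimageIso e
  let ad' : twistQ E hEq ⊣ a ⋙ DCoh.RpushQ f hf := (adQ.comp adj).ofNatIsoLeft eQ.symm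
  let ad₀ := DCoh.RSheafHomAdj E
  have hB : ∀ N : (Dual3.IsBddBelowQ X).FullSubcategory,
      DCoh.IsQCohD ((DCoh.RSheafHom E).obj N.obj.obj) := fun N => by
    obtain ⟨n, hn⟩ := N.property
    haveI := hn
    exact isQCohD_RSheafHom_of_pseudoCoherent E hpc N.obj.obj N.obj.property n
  let κ : Dual3.bddι X ⋙ a ⋙ DCoh.RpushQ f hf ⋙ ιX ⟶ Dual3.bddι X ⋙ ιX ⋙ DCoh.RSheafHom E :=
    { app := fun N => ad₀.homEquiv _ _ (ad'.counit.app N.obj).hom
      naturality := fun N N' g => by
        refine (ad₀.homEquiv_naturality_left _ _).symm.trans ?_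
        refine Eq.trans ?_ (ad₀.homEquiv_naturality_right _ _)
        exact congrArg (ad₀.homEquiv _ _) (congrArg (fun t => t.hom) (ad'.counit.naturality g.hom)) }
  haveI : ∀ N, IsIso (κ.app N) := fun N => by
    let B : DCoh.DQCoh X := ⟨_, hB N⟩
    let k : (a ⋙ DCoh.RpushQ f hf).obj N.obj ⟶ B := ObjectProperty.homMk (κ.app N)
    suffices IsIso k from inferInstanceAs (IsIso (ιX.map k))
    refine isIso_of_yoneda_map_bijective _ fun T => ?_
    let Ψ : (T ⟶ (a ⋙ DCoh.RpushQ f hf).obj N.obj) ≃ (T ⟶ B) :=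
      (ad'.homEquiv T N.obj).symm.trans
        (((DCoh.IsQCohD (X := X)).fullyFaithfulι.homEquiv).trans
          ((ad₀.homEquiv _ _).trans ((DCoh.IsQCohD (X := X)).fullyFaithfulι.homEquiv (X := T) (Y := B)).symm))
    convert Ψ.bijective using 1
    funext x
    apply ObjectProperty.hom_ext
    change x.hom ≫ ad₀.homEquiv _ _ (ad'.counit.app N.obj).hom = ad₀.homEquiv _ _ ((ad'.homEquiv T N.obj).symm x).hom
    rw [← ad₀.homEquiv_naturality_left, Adjunction.homEquiv_counit]
    rfl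
  haveI := NatIso.isIso_of_isIso_app κ
  exact ⟨asIso κ⟩

end Groth.Agent.DualTwist
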