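import Groth.Agent.DualTwist.Diagonal
import Groth.Agent.DualTwist.Finite
import Groth.Agent.PushAmp.ClosedCoh
import Groth.Agent.PushAmp.PushPC
import Groth.Agent.PushAmp.RSheafHomExists
import Groth.Agent.H9Misc.AdjDescend
import Groth.Agent.TriCat.RPlus
import Groth.Prelude.Def_Dual3

/-!
# Duality for a closed immersion
-/

set_option autoImplicit false
set_option linter.style.haveILetI false
set_option backward.isDefEq.respectTransparency false
set_option backward.isDefEq.respectTransparency.types false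
set_option maxHeartbeats 800000
set_option synthInstance.maxHeartbeats 400000

universe w w' v v' u u'

open CategoryTheory CategoryTheory.Limits AlgebraicGeometry

attribute [local instance] HasDerivedCategory.standard

noncomputable section

namespace Groth.Agent.DualTwist

open Groth.Agent Groth.Agent.KFlatLib

section Abelian

variable {A : Type u} [Category.{v} A] [Abelian A] [HasDerivedCategory.{w} A] [EnoughInjectives A]
  {B : Type u'} [Category.{v'} B] [Abelian B] [HasDerivedCategory.{w'} B]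

/-- The right derived functor on `D⁺` is the restriction of the unbounded one. -/
lemma nonempty_rightDerivedPlus_iso (G : A ⥤ B) [G.Additive]
    {RB : DerivedCategory A ⥤ HomotopyCategory A (ComplexShape.up ℤ)}
    (adjQ : DerivedCategory.Qh ⊣ RB) :
    Nonempty (G.rightDerivedFunctorPlus ⋙ DerivedCategory.Plus.ι ≅
      DerivedCategory.Plus.ι ⋙ (RB ⋙ G.mapHomotopyCategory (ComplexShape.up ℤ)) ⋙ DerivedCategory.Qh) := by
  let ιK := (InjectiveObject.ι A).mapHomotopyCategoryPlus ⋙ (HomotopyCategory.plus A).ι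
  have hu : ∀ L, IsIso (adjQ.unit.app (ιK.obj L)) := fun L =>
    TriCat.isIso_unit_of_isKInjective adjQ
      (((InjectiveObject.ι A).mapHomotopyCategoryPlus.obj L).obj.as : CochainComplex A ℤ)
  let U := Functor.whiskerLeft ιK adjQ.unit
  haveI : ∀ L, IsIso (U.app L) := hu
  haveI := NatIso.isIso_of_isIso_app U
  haveI : (TriCat.injToPlus A).IsEquivalence := { }
  let T := TriCat.injToPlus A
  let e : T ⋙ G.rightDerivedFunctorPlus ⋙ DerivedCategory.Plus.ι ≅
      T ⋙ DerivedCategory.Plus.ι ⋙ (RB ⋙ G.mapHomotopyCategory (ComplexShape.up ℤ)) ⋙ DerivedCategory.Qh :=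
    (Functor.associator _ _ _).symm ≪≫
      Functor.isoWhiskerRight (TriCat.rightDerivedPlusIso A G) DerivedCategory.Plus.ι ≪≫
      (Functor.isoWhiskerRight (asIso U) (G.mapHomotopyCategory (ComplexShape.up ℤ) ⋙ DerivedCategory.Qh))
  exact ⟨((Functor.asEquivalence T).congrLeft.fullyFaithfulInverse.preimageIso e)⟩

end Abelian

variable {Z X : Scheme.{u}}

/-- Duality for a closed immersion with pseudo-coherent structure sheaf. -/
theorem nonempty_closed_duality [CompactSpace X] [QuasiSeparatedSpace X] (i : Z ⟶ X) [IsClosedImmersion i]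
    (hpc : ∀ m : ℤ, DCoh.IsPseudoCoherentD m
      (DCoh.inD X ((Coh.push i).obj (Coh.structureModule Z))))
    [Dual3.HasHomO i] [EnoughInjectives X.Modules] [DCoh.HasRpush i] (hf : DCoh.RpushPreservesQCoh i)
    (a : DCoh.DQCoh X ⥤ DCoh.DQCoh Z) (adj : DCoh.RpushQ i hf ⊣ a) :
    Nonempty (Dual3.bddι X ⋙ a ⋙ ObjectProperty.ι _ ≅
      Dual3.bddToPlus X ⋙ Dual3.RHomOPlus i ⋙
        (DerivedCategory.Plus.ι : DerivedCategory.Plus Z.Modules ⥤ DCoh.D Z)) := by
  haveI : PreservesFiniteColimits (Scheme.Modules.pushforward i) :=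
    ⟨fun J _ _ => preservesColimitsOfShape_push i J⟩
  haveI : PreservesFiniteLimits (Scheme.Modules.pushforward i) := inferInstance
  haveI := TriCat.qh_isLeftAdjoint_of_exists_resolution (A := X.Modules) exists_kInjective_res
  let adjQ := Adjunction.ofIsLeftAdjoint (DerivedCategory.Qh (C := X.Modules))
  let adD := H9Misc.AdjDescend.derivedAdj (Dual3.homOAdj i) adjQ
  let R : DCoh.D X ⥤ DCoh.D Z := (DerivedCategory.Qh.rightAdjoint ⋙
    (Dual3.homO i).mapHomotopyCategory (ComplexShape.up ℤ)) ⋙ DerivedCategory.Qh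
  haveI : ∀ C, IsIso ((rpushUnit i).app C) := isIso_rpushUnit_closed i
  haveI := NatIso.isIso_of_isIso_app (rpushUnit i)
  letI : Localization.Lifting DerivedCategory.Q (qisX Z) (DerivedCategory.Q ⋙ DCoh.Rpush i) (DCoh.Rpush i) :=
    ⟨Iso.refl _⟩
  let eP : (Scheme.Modules.pushforward i).mapDerivedCategory ≅ DCoh.Rpush i :=
    Localization.liftNatIso DerivedCategory.Q (qisX Z)
      (DerivedCategory.Q ⋙ (Scheme.Modules.pushforward i).mapDerivedCategory)
      (DerivedCategory.Q ⋙ DCoh.Rpush i) _ _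
      ((Scheme.Modules.pushforward i).mapDerivedCategoryFactors ≪≫ asIso (rpushUnit i))
  let adR : DCoh.Rpush i ⊣ R := adD.ofNatIsoLeft eP
  haveI := hasLpull i
  obtain ⟨adf⟩ := nonempty_lpull_rpush_adj i
  let E := (HomologicalComplex.single X.Modules (ComplexShape.up ℤ) 0).obj
    ((Coh.push i).obj (Coh.structureModule Z))
  haveI := hasLTensorCx E
  haveI := PushAmp.hasRSheafHom E
  let eE : DerivedCategory.Q.obj E ≅ DCoh.inD X ((Coh.push i).obj (Coh.structureModule Z)) :=
    ((DerivedCategory.singleFunctorIsoCompQ X.Modules 0).app _).symm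
  obtain ⟨eT⟩ := nonempty_ltensor_closed i E ⟨eE⟩
  let eH : R ⋙ DCoh.Rpush i ≅ DCoh.RSheafHom E :=
    ((adf.comp adR).ofNatIsoLeft eT.symm).rightAdjointUniq (DCoh.RSheafHomAdj E)
  have hpE : ∀ m : ℤ, DCoh.IsPseudoCoherentD m (DCoh.toD X E) := fun m =>
    (isPseudoCoherentD_iff _ _).2 (LocPC.of_iso eE.symm ((isPseudoCoherentD_iff _ _).1 (hpc m)))
  have hB : ∀ N : (Dual3.IsBddBelowQ X).FullSubcategory, DCoh.IsQCohD (R.obj N.obj.obj) := fun N k => by
    obtain ⟨n, hn⟩ := N.property
    haveI := hn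
    have h := isQCohD_of_iso (eP.app _ ≪≫ eH.app _).symm
      (isQCohD_RSheafHom_of_pseudoCoherent E hpE N.obj.obj N.obj.property n) k
    obtain ⟨e⟩ := PushAmp.nonempty_hd_pushD i (R.obj N.obj.obj) k
    exact PushAmp.isQCoh_of_push_closed i _ (isQCoh_of_iso e h)
  let ιX := (DCoh.IsQCohD (X := X)).ι
  let ιZ := (DCoh.IsQCohD (X := Z)).ι
  let κ : Dual3.bddι X ⋙ a ⋙ ιZ ⟶ Dual3.bddι X ⋙ ιX ⋙ R :=
    { app := fun N => adR.homEquiv _ _ (adj.counit.app N.obj).hom
      naturality := fun N N' g => by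
        refine (adR.homEquiv_naturality_left _ _).symm.trans ?_
        refine Eq.trans ?_ (adR.homEquiv_naturality_right _ _)
        exact congrArg (adR.homEquiv _ _) (congrArg (fun t => t.hom) (adj.counit.naturality g.hom)) }
  haveI : ∀ N, IsIso (κ.app N) := fun N => by
    let B : DCoh.DQCoh Z := ⟨_, hB N⟩
    let k : a.obj N.obj ⟶ B := ObjectProperty.homMk (κ.app N)
    suffices IsIso k from inferInstanceAs (IsIso (ιZ.map k))
    refine isIso_of_yoneda_map_bijective _ fun T => ?_
    let Ψ : (T ⟶ a.obj N.obj) ≃ (T ⟶ B) :=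
      (adj.homEquiv T N.obj).symm.trans
        (((DCoh.IsQCohD (X := X)).fullyFaithfulι.homEquiv).trans
          ((adR.homEquiv _ _).trans
            ((DCoh.IsQCohD (X := Z)).fullyFaithfulι.homEquiv (X := T) (Y := B)).symm))
    convert Ψ.bijective using 1
    funext x
    apply ObjectProperty.hom_ext
    change x.hom ≫ adR.homEquiv _ _ (adj.counit.app N.obj).hom =
      adR.homEquiv _ _ ((adj.homEquiv T N.obj).symm x).hom
    rw [← adR.homEquiv_naturality_left, Adjunction.homEquiv_counit]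
    rfl
  haveI := NatIso.isIso_of_isIso_app κ
  obtain ⟨eR⟩ := nonempty_rightDerivedPlus_iso (Dual3.homO i) adjQ
  exact ⟨asIso κ ≪≫ Functor.isoWhiskerLeft (Dual3.bddToPlus X) eR.symm⟩

end Groth.Agent.DualTwist
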