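import Groth.Agent.DualTwist.PhiComp
import Groth.Agent.PushAmp.Adjoint
import Groth.Agent.PushAmp.RelPCBaseChangeAll

/-!
# Convolution of perfect kernels
-/

set_option autoImplicit false
set_option linter.style.haveILetI false
set_option backward.isDefEq.respectTransparency false
set_option maxHeartbeats 600000

universe u

open CategoryTheory CategoryTheory.Limits AlgebraicGeometry

attribute [local instance] HasDerivedCategory.standard

noncomputable section

namespace Groth.Agent.DualTwist

open Groth.Agent Groth.Agent.KFlatLib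

variable {S X Y Z : Scheme.{u}} (a : X ⟶ S) (b : Y ⟶ S) (c : Z ⟶ S)

/-- `pr₁₃` is a base change of `Y ⟶ S`. -/
theorem isPullback_p13 :
    IsPullback (FMK.p13 a b c) (FMK.p12 a b c ≫ pullback.snd a b) (pullback.fst a c ≫ a) b := by
  have w : FMK.p13 a b c ≫ pullback.fst a c ≫ a = (FMK.p12 a b c ≫ pullback.snd a b) ≫ b := by
    rw [FMK.p13_fst_assoc, Category.assoc, pullback.condition]
  refine ⟨⟨w⟩, ⟨PullbackCone.IsLimit.mk w (fun s => pullback.lift
      (pullback.lift (s.fst ≫ pullback.fst a c) s.snd (by rw [Category.assoc]; exact s.condition))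
      (pullback.lift s.snd (s.fst ≫ pullback.snd a c)
        (by rw [Category.assoc, ← pullback.condition]; exact s.condition.symm))
      (by rw [pullback.lift_snd, pullback.lift_fst])) ?_ ?_ ?_⟩⟩
  · intro s
    refine pullback.hom_ext ?_ ?_
    · simp [FMK.p12]
    · simp [FMK.p23]
  · intro s
    simp [FMK.p12]
  · intro s m h₁ h₂
    refine pullback.hom_ext ?_ ?_
    · refine pullback.hom_ext ?_ ?_
      · rw [pullback.lift_fst, pullback.lift_fst, ← h₁, Category.assoc, Category.assoc]
        erw [FMK.p13_fst]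
      · rw [pullback.lift_fst, pullback.lift_snd, ← h₂, Category.assoc]
    · refine pullback.hom_ext ?_ ?_
      · rw [pullback.lift_snd, pullback.lift_fst, ← h₂]
        simp [pullback.condition]
      · rw [pullback.lift_snd, pullback.lift_snd, ← h₁, Category.assoc, Category.assoc]
        erw [FMK.p13_snd]

variable [IsNoetherian S] [IsProper a] [Flat a] [IsProper b] [Flat b] [IsProper c] [Flat c]

theorem isNoetherian_pullback : IsNoetherian (pullback a c) := by
  haveI : IsProper (pullback.fst a c ≫ a) := inferInstance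
  haveI := LocallyOfFiniteType.isLocallyNoetherian (pullback.fst a c ≫ a)
  haveI : CompactSpace ↥(pullback a c) := QuasiCompact.compactSpace_of_compactSpace (pullback.fst a c ≫ a)
  exact {}

/-- The convolution of perfect kernels is perfect and represents the composite on perfect objects. -/
theorem conv_perfect_and_phi_comp
    (K : CochainComplex (pullback a b).Modules ℤ) (K' : CochainComplex (pullback b c).Modules ℤ)
    (hK : DCoh.IsPerfect (DCoh.toD _ K)) (hK' : DCoh.IsPerfect (DCoh.toD _ K'))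
    [DCoh.HasLpull (pullback.fst a b)] [DCoh.HasLTensorCx K] [DCoh.HasRpush (pullback.snd a b)]
    [DCoh.HasLpull (pullback.fst b c)] [DCoh.HasLTensorCx K'] [DCoh.HasRpush (pullback.snd b c)]
    [DCoh.HasLpull (FMK.p12 a b c)] [DCoh.HasLTensorCx ((FMK.cxPull (FMK.p23 a b c)).obj K')]
    [DCoh.HasRpush (FMK.p13 a b c)]
    [DCoh.HasLpull (pullback.fst a c)] [DCoh.HasRpush (pullback.snd a c)] :
    DCoh.IsPerfect (FMK.conv a b c K ((FMK.cxPull (FMK.p23 a b c)).obj K')) ∧
      ∀ (N : CochainComplex (pullback a c).Modules ℤ) [DCoh.HasLTensorCx N],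
        Nonempty (DCoh.toD _ N ≅ FMK.conv a b c K ((FMK.cxPull (FMK.p23 a b c)).obj K')) →
        Nonempty (ObjectProperty.ι (SGA6.perfP X) ⋙ FMK.phi a c N ≅
          ObjectProperty.ι (SGA6.perfP X) ⋙ FMK.phi a b K ⋙ FMK.phi b c K') := by
  let q := FMK.p23 a b c
  haveI : Flat (pullback.snd a b) := MorphismProperty.pullback_snd _ _ ‹Flat a›
  haveI : Flat q := MorphismProperty.pullback_snd _ _ ‹Flat (pullback.snd a b)›
  haveI : IsProper (FMK.p13 a b c) := MorphismProperty.of_isPullback (isPullback_p13 a b c).flip ‹IsProper b›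
  haveI : Flat (FMK.p13 a b c) := MorphismProperty.of_isPullback (isPullback_p13 a b c).flip ‹Flat b›
  haveI := isNoetherian_pullback a c
  haveI := PushAmp.preservesFiniteLimits_pullback_flat q
  haveI := hasLpull q
  let L := (FMK.cxPull q).obj K'
  obtain ⟨eL⟩ := PushAmp.nonempty_lpull_flat q (Iso.refl (DerivedCategory.Q.obj K'))
  have hL : DCoh.IsPerfect (DerivedCategory.Q.obj L) := DQGen.isPerfect_of_iso eL (isPerfect_lpull q hK')
  obtain ⟨L₁, hL₁, ⟨eL₁⟩⟩ := exists_kFlat_rep (DerivedCategory.Q.obj L)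
  haveI := hasLTensorCx L₁
  obtain ⟨cL⟩ := nonempty_LTensorCx_congr_D eL₁
  refine ⟨PushAmp.isPerfect_rpush_of_flat (FMK.p13 a b c) (DQGen.isPerfect_of_iso (cL.app _)
    (isPerfect_ltensor L₁ hL₁ (DQGen.isPerfect_of_iso eL₁.symm hL) (isPerfect_lpull _ hK))), ?_⟩
  intro N _ hN
  obtain ⟨e⟩ := nonempty_phi_comp a b c (Or.inl ‹Flat a›) K K' (DQGen.isQCohD_of_isPerfect hK)
    (DQGen.isQCohD_of_isPerfect hK') L ⟨eL.symm⟩ N hN
  let J : (SGA6.perfP X).FullSubcategory ⥤ DCoh.DQCoh X :=
    ObjectProperty.lift DCoh.IsQCohD (SGA6.perfP X).ι fun G => DQGen.isQCohD_of_isPerfect G.property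
  exact ⟨Functor.isoWhiskerLeft J e⟩

end Groth.Agent.DualTwist
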