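import Groth.Agent.DualTwist.ConvPerfect

/-!
# Base change of convolutions
-/

set_option autoImplicit false
set_option linter.style.haveILetI false
set_option backward.isDefEq.respectTransparency false
set_option maxHeartbeats 600000

universe u

open CategoryTheory CategoryTheory.Limits AlgebraicGeometry

attribute [local instance] HasDerivedCategory.standard

noncomputable section

namespace Groth.Agent.DualTwist

open Groth.Agent Groth.Agent.KFlatLib

/-- `Lh^* Rr_*(Lp^*K ⊗^L L) ≅ Rr'_*(Lp'^*K₁ ⊗^L L₁)` for a Cartesian square and compatible kernels. -/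
theorem nonempty_pull_conv_gen {T T' P P' A A' : Scheme.{u}} {r : T ⟶ P} {h : P' ⟶ P} {r' : T' ⟶ P'}
    {t : T' ⟶ T} (H : IsPullback t r' r h) [Flat r] [QuasiCompact r] [QuasiSeparated r]
    {p : T ⟶ A} {p' : T' ⟶ A'} {m : A' ⟶ A} (hp : t ≫ p = p' ≫ m)
    [DCoh.HasRpush r] [DCoh.HasRpush r'] [DCoh.HasLpull h] [DCoh.HasLpull t] [DCoh.HasLpull p]
    [DCoh.HasLpull p'] [DCoh.HasLpull m]
    {K : DCoh.D A} (hK : DCoh.IsQCohD K) (K₁ : DCoh.D A') (eK : K₁ ≅ (DCoh.Lpull m).obj K)
    (L : CochainComplex T.Modules ℤ) (hL : DCoh.IsQCohD (DerivedCategory.Q.obj L)) [DCoh.HasLTensorCx L]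
    (L₁ : CochainComplex T'.Modules ℤ) [DCoh.HasLTensorCx L₁]
    (eL : DerivedCategory.Q.obj L₁ ≅ (DCoh.Lpull t).obj (DerivedCategory.Q.obj L)) :
    Nonempty ((DCoh.Lpull h).obj ((DCoh.Rpush r).obj ((DCoh.LTensorCx L).obj ((DCoh.Lpull p).obj K))) ≅
      (DCoh.Rpush r').obj ((DCoh.LTensorCx L₁).obj ((DCoh.Lpull p').obj K₁))) := by
  haveI := hasLpull (t ≫ p)
  haveI := hasLpull (p' ≫ m)
  obtain ⟨l₁⟩ := nonempty_lpull_comp t p
  obtain ⟨l₂⟩ := nonempty_lpull_comp p' m
  obtain ⟨l₃⟩ := nonempty_lpull_congr hp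
  obtain ⟨c⟩ := nonempty_ltensor_lpull t L L₁ ⟨eL⟩
  obtain ⟨β⟩ := nonempty_bc_natIso H.w (DCoh.IsQCohD (X := T)) fun E hE => RBC.bc_of_flat_left H E hE
  exact ⟨β.app ⟨_, isQCohD_ltensor L hL (isQCohD_lpull p hK)⟩ ≪≫ (DCoh.Rpush r').mapIso
    (c.app _ ≪≫ (DCoh.LTensorCx L₁).mapIso ((l₁ ≪≫ l₃ ≪≫ l₂.symm).app K ≪≫
      (DCoh.Lpull p').mapIso eK.symm))⟩

section

variable {S S' X Y Z : Scheme.{u}} (a : X ⟶ S) (b : Y ⟶ S) (c : Z ⟶ S) (g : S' ⟶ S)

/-- The comparison map of fibre products after base change. -/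
abbrev bcMap : pullback (pullback.snd a g) (pullback.snd b g) ⟶ pullback a b :=
  pullback.map (pullback.snd a g) (pullback.snd b g) a b (pullback.fst a g) (pullback.fst b g) g
    pullback.condition.symm pullback.condition.symm

lemma bcMap_fst : bcMap a b g ≫ pullback.fst a b =
    pullback.fst (pullback.snd a g) (pullback.snd b g) ≫ pullback.fst a g :=
  pullback.lift_fst _ _ _

lemma bcMap_snd : bcMap a b g ≫ pullback.snd a b =
    pullback.snd (pullback.snd a g) (pullback.snd b g) ≫ pullback.fst b g :=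
  pullback.lift_snd _ _ _

/-- The comparison map of triple fibre products after base change. -/
def bcMapT : FMK.T (pullback.snd a g) (pullback.snd b g) (pullback.snd c g) ⟶ FMK.T a b c :=
  pullback.lift (FMK.p12 (pullback.snd a g) (pullback.snd b g) (pullback.snd c g) ≫ bcMap a b g)
    (FMK.p23 (pullback.snd a g) (pullback.snd b g) (pullback.snd c g) ≫ bcMap b c g) (by
      simp only [bcMap, Category.assoc, pullback.map, pullback.lift_fst, pullback.lift_snd]
      rw [← Category.assoc, ← Category.assoc]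
      exact congrArg (· ≫ pullback.fst b g) pullback.condition)

lemma bcMapT_p12 : bcMapT a b c g ≫ FMK.p12 a b c =
    FMK.p12 (pullback.snd a g) (pullback.snd b g) (pullback.snd c g) ≫ bcMap a b g :=
  pullback.lift_fst _ _ _

lemma bcMapT_p23 : bcMapT a b c g ≫ FMK.p23 a b c =
    FMK.p23 (pullback.snd a g) (pullback.snd b g) (pullback.snd c g) ≫ bcMap b c g :=
  pullback.lift_snd _ _ _

lemma bcMapT_p13 : bcMapT a b c g ≫ FMK.p13 a b c =
    FMK.p13 (pullback.snd a g) (pullback.snd b g) (pullback.snd c g) ≫ bcMap a c g := by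
  apply pullback.hom_ext
  · rw [Category.assoc, Category.assoc, FMK.p13_fst, bcMap_fst, reassoc_of% (bcMapT_p12 a b c g), bcMap_fst,
      ← Category.assoc, ← Category.assoc, FMK.p13_fst]
  · rw [Category.assoc, Category.assoc, FMK.p13_snd, bcMap_snd, reassoc_of% (bcMapT_p23 a b c g), bcMap_snd,
      ← Category.assoc, ← Category.assoc, FMK.p13_snd]

lemma isPullback_bcMapT : IsPullback (bcMapT a b c g)
    (FMK.p13 (pullback.snd a g) (pullback.snd b g) (pullback.snd c g)) (FMK.p13 a b c) (bcMap a c g) := by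
  have h₁ := (isPullback_p13 (pullback.snd a g) (pullback.snd b g) (pullback.snd c g)).flip.paste_horiz
    (IsPullback.of_hasPullback b g)
  have e₁ : (FMK.p12 (pullback.snd a g) (pullback.snd b g) (pullback.snd c g) ≫
      pullback.snd (pullback.snd a g) (pullback.snd b g)) ≫ pullback.fst b g =
      bcMapT a b c g ≫ FMK.p12 a b c ≫ pullback.snd a b := by
    rw [← Category.assoc (bcMapT a b c g), bcMapT_p12, Category.assoc, Category.assoc]
    simp [bcMap, pullback.map]
  have e₂ : (pullback.fst (pullback.snd a g) (pullback.snd c g) ≫ pullback.snd a g) ≫ g =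
      bcMap a c g ≫ pullback.fst a c ≫ a := by
    rw [reassoc_of% (bcMap_fst a c g), Category.assoc, pullback.condition (f := a) (g := g)]
  rw [e₁, e₂] at h₁
  exact IsPullback.of_right h₁ (bcMapT_p13 a b c g) (isPullback_p13 a b c).flip

end

/-- **Base change of convolutions.** -/
theorem nonempty_pull_conv {S S' X Y Z : Scheme.{u}} (a : X ⟶ S) (b : Y ⟶ S) (c : Z ⟶ S) (g : S' ⟶ S)
    [Flat a] [Flat b] [QuasiCompact b] [QuasiSeparated b]
    (K : CochainComplex (pullback a b).Modules ℤ) (M : CochainComplex (pullback b c).Modules ℤ)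
    (hK : DCoh.IsQCohD (DCoh.toD _ K)) (hM : DCoh.IsQCohD (DCoh.toD _ M))
    [DCoh.HasLpull (FMK.p12 a b c)] [DCoh.HasLTensorCx ((FMK.cxPull (FMK.p23 a b c)).obj M)]
    [DCoh.HasRpush (FMK.p13 a b c)]
    [DCoh.HasLpull (bcMap a b g)] [DCoh.HasLpull (bcMap b c g)] [DCoh.HasLpull (bcMap a c g)]
    (K₁ : CochainComplex (pullback (pullback.snd a g) (pullback.snd b g)).Modules ℤ)
    (hK₁ : Nonempty (DCoh.toD _ K₁ ≅ (DCoh.Lpull (bcMap a b g)).obj (DCoh.toD _ K)))
    (M₁ : CochainComplex (pullback (pullback.snd b g) (pullback.snd c g)).Modules ℤ)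
    (hM₁ : Nonempty (DCoh.toD _ M₁ ≅ (DCoh.Lpull (bcMap b c g)).obj (DCoh.toD _ M)))
    [DCoh.HasLpull (FMK.p12 (pullback.snd a g) (pullback.snd b g) (pullback.snd c g))]
    [DCoh.HasLTensorCx ((FMK.cxPull (FMK.p23 (pullback.snd a g) (pullback.snd b g) (pullback.snd c g))).obj M₁)]
    [DCoh.HasRpush (FMK.p13 (pullback.snd a g) (pullback.snd b g) (pullback.snd c g))] :
    Nonempty ((DCoh.Lpull (bcMap a c g)).obj (FMK.conv a b c K ((FMK.cxPull (FMK.p23 a b c)).obj M)) ≅
      FMK.conv (pullback.snd a g) (pullback.snd b g) (pullback.snd c g) K₁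
        ((FMK.cxPull (FMK.p23 (pullback.snd a g) (pullback.snd b g) (pullback.snd c g))).obj M₁)) := by
  let q := FMK.p23 a b c
  let q' := FMK.p23 (pullback.snd a g) (pullback.snd b g) (pullback.snd c g)
  let t := bcMapT a b c g
  haveI : Flat (pullback.snd a b) := MorphismProperty.pullback_snd _ _ ‹Flat a›
  haveI : Flat q := MorphismProperty.pullback_snd _ _ ‹Flat (pullback.snd a b)›
  haveI : Flat (pullback.snd a g) := MorphismProperty.pullback_snd _ _ ‹Flat a›
  haveI : Flat (pullback.snd (pullback.snd a g) (pullback.snd b g)) :=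
    MorphismProperty.pullback_snd _ _ ‹Flat (pullback.snd a g)›
  haveI : Flat q' := MorphismProperty.pullback_snd _ _
    ‹Flat (pullback.snd (pullback.snd a g) (pullback.snd b g))›
  haveI : Flat (FMK.p13 a b c) := MorphismProperty.of_isPullback (isPullback_p13 a b c).flip ‹Flat b›
  haveI : QuasiCompact (FMK.p13 a b c) :=
    MorphismProperty.of_isPullback (isPullback_p13 a b c).flip ‹QuasiCompact b›
  haveI : QuasiSeparated (FMK.p13 a b c) :=
    MorphismProperty.of_isPullback (isPullback_p13 a b c).flip ‹QuasiSeparated b›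
  haveI := PushAmp.preservesFiniteLimits_pullback_flat q
  haveI := PushAmp.preservesFiniteLimits_pullback_flat q'
  haveI := hasLpull q
  haveI := hasLpull q'
  haveI := hasLpull t
  haveI := hasLpull (t ≫ q)
  haveI := hasLpull (q' ≫ bcMap b c g)
  obtain ⟨eL⟩ := PushAmp.nonempty_lpull_flat q (Iso.refl (DerivedCategory.Q.obj M))
  obtain ⟨eL'⟩ := PushAmp.nonempty_lpull_flat q' (Iso.refl (DerivedCategory.Q.obj M₁))
  obtain ⟨eM⟩ := hM₁
  obtain ⟨eK⟩ := hK₁
  obtain ⟨l₁⟩ := nonempty_lpull_comp t q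
  obtain ⟨l₂⟩ := nonempty_lpull_comp q' (bcMap b c g)
  obtain ⟨l₃⟩ := nonempty_lpull_congr (bcMapT_p23 a b c g)
  exact nonempty_pull_conv_gen (isPullback_bcMapT a b c g) (bcMapT_p12 a b c g) hK _ eK _
    (isQCohD_of_iso eL (isQCohD_lpull q hM)) _
    (eL'.symm ≪≫ (DCoh.Lpull q').mapIso eM ≪≫ (l₂ ≪≫ l₃.symm ≪≫ l₁.symm).app _ ≪≫ (DCoh.Lpull t).mapIso eL)

end Groth.Agent.DualTwist
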