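import Groth.Agent.KFlatLib.Scheme.DualPerfect
import Groth.Agent.KFlatLib.Scheme.TensorAssoc
import Groth.Agent.KFlatLib.Scheme.ProjFormula
import Groth.Agent.PushAmp.RSheafHomExists

/-!
# `RHom(K, - ⊗^L W) ≅ - ⊗^L RHom(K, W)` naturally, for perfect `K`
-/

set_option autoImplicit false
set_option linter.style.haveILetI false
set_option backward.isDefEq.respectTransparency false
set_option backward.isDefEq.respectTransparency.types false
set_option maxHeartbeats 800000
set_option synthInstance.maxHeartbeats 400000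

universe u

open CategoryTheory CategoryTheory.Limits AlgebraicGeometry

attribute [local instance] HasDerivedCategory.standard

noncomputable section

namespace Groth.Agent.DualTwist

open Groth.Agent Groth.Agent.KFlatLib

variable {X : Scheme.{u}} (K : CochainComplex X.Modules ℤ) [DCoh.HasLTensorCx K] [DCoh.HasRSheafHom K]

/-- The comparison `iHom(K, J) ⟶ RHom(K, J)` in the derived category. -/
def cmp (J : CochainComplex X.Modules ℤ) :
    DerivedCategory.Q.obj ((iHom K).obj J) ⟶ (DCoh.RSheafHom K).obj (DerivedCategory.Q.obj J) :=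
  (DCoh.RSheafHomAdj K).homEquiv _ _
    (((DCoh.tensorCxQ K).totalLeftDerivedCounit DerivedCategory.Q (qisX X)).app ((iHom K).obj J) ≫
      DerivedCategory.Q.map ((iHomAdj K).counit.app J))

/-- Transposes through `cmp`. -/
lemma cmp_key (J N : CochainComplex X.Modules ℤ) (g : N ⟶ (iHom K).obj J) :
    ((DCoh.RSheafHomAdj K).homEquiv _ _).symm (DerivedCategory.Q.map g ≫ cmp K J) =
      ((DCoh.tensorCxQ K).totalLeftDerivedCounit DerivedCategory.Q (qisX X)).app N ≫
        DerivedCategory.Q.map (((iHomAdj K).homEquiv N J).symm g) := by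
  let adj := DCoh.RSheafHomAdj K
  let c := (DCoh.tensorCxQ K).totalLeftDerivedCounit DerivedCategory.Q (qisX X)
  refine (Equiv.symm_apply_eq _).2 ?_
  refine (adj.homEquiv_naturality_left _ _).symm.trans (congrArg _ ?_)
  refine Eq.trans ?_ (congrArg (fun z => c.app N ≫ DerivedCategory.Q.map z)
    ((iHomAdj K).homEquiv_counit N J g).symm)
  refine Eq.trans ?_ (congrArg (c.app N ≫ ·) (DerivedCategory.Q.map_comp _ _).symm)
  exact ((Category.assoc _ _ _).symm.trans (congrArg (· ≫ _) (c.naturality g))).trans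
    (Category.assoc _ _ _)

/-- `iHom(K, J)` computes `RHom(K, J)`. -/
lemma isIso_cmp (hK : DCoh.IsKFlat K) (J : CochainComplex X.Modules ℤ) [J.IsKInjective]
    [∀ n, Injective (J.X n)] : IsIso (cmp K J) := by
  let A := (iHom K).obj J
  let c := (DCoh.tensorCxQ K).totalLeftDerivedCounit DerivedCategory.Q (qisX X)
  haveI := fun N => isIso_LTensorCx_counit_of_isKFlat_right K hK N
  haveI := isKInjective_iHom hK J
  let adj := DCoh.RSheafHomAdj K
  refine isIso_of_yoneda_map_bijective _ fun Z => ?_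
  obtain ⟨N, hN, ⟨e⟩⟩ := exists_kFlat_rep Z
  suffices h : Function.Bijective
      (fun a : DerivedCategory.Q.obj N ⟶ DerivedCategory.Q.obj A => a ≫ cmp K J) by
    refine ⟨fun z z' hz => (cancel_epi e.hom).1 (h.1 ?_), fun y => ?_⟩
    · simp only [Category.assoc] at hz ⊢
      exact congrArg (e.hom ≫ ·) hz
    · obtain ⟨z, hz⟩ := h.2 (e.hom ≫ y)
      refine ⟨e.inv ≫ z, ?_⟩
      change (e.inv ≫ z) ≫ _ = y
      simp only [Category.assoc] at hz ⊢
      exact (congrArg (e.inv ≫ ·) hz).trans (Iso.inv_hom_id_assoc e y)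
  refine ⟨fun a a' h => ?_, fun y => ?_⟩
  · obtain ⟨g, rfl⟩ := exists_Q_map a
    obtain ⟨g', rfl⟩ := exists_Q_map a'
    have h' := congrArg (adj.homEquiv (DerivedCategory.Q.obj N) _).symm h
    simp only [adj, cmp_key] at h'
    obtain ⟨H⟩ := (Inner.nonempty_homotopy_iff (DCoh.tensorBi (X := X)) g g').2
      (homotopy_of_Q_map_eq _ _ ((cancel_epi (c.app N)).1 h'))
    exact DerivedCategory.Q_map_eq_of_homotopy _ H
  · obtain ⟨b, hb⟩ := exists_Q_map (inv (c.app N) ≫ (adj.homEquiv _ _).symm y)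
    refine ⟨DerivedCategory.Q.map ((iHomAdj K).homEquiv N J b), (adj.homEquiv _ _).symm.injective ?_⟩
    rw [cmp_key, Equiv.symm_apply_apply, hb]
    exact IsIso.hom_inv_id_assoc (c.app N) _

variable (I : CochainComplex X.Modules ℤ)

/-- The chain level pairing `(R ⊗ iHom(K, I)) ⊗^L K ⟶ R ⊗ I`. -/
def pairing : (DCoh.tensorCx (X := X)).flip.obj ((iHom K).obj I) ⋙ DerivedCategory.Q ⋙ DCoh.LTensorCx K ⟶
    (DCoh.tensorCx (X := X)).flip.obj I ⋙ DerivedCategory.Q :=
  Functor.whiskerLeft ((DCoh.tensorCx (X := X)).flip.obj ((iHom K).obj I))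
      ((DCoh.tensorCxQ K).totalLeftDerivedCounit DerivedCategory.Q (qisX X)) ≫
    Functor.whiskerRight ((tensorCxFlipCompIso ((iHom K).obj I) K).hom ≫
      (DCoh.tensorCx (X := X)).flip.map ((iHomAdj K).counit.app I)) DerivedCategory.Q

/-- The natural comparison on complexes. -/
def nu : (DCoh.tensorCx (X := X)).flip.obj ((iHom K).obj I) ⋙ DerivedCategory.Q ⟶
    ((DCoh.tensorCx (X := X)).flip.obj I ⋙ DerivedCategory.Q) ⋙ DCoh.RSheafHom K where
  app R := (DCoh.RSheafHomAdj K).homEquiv _ _ ((pairing K I).app R)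
  naturality R R' g := by
    refine ((DCoh.RSheafHomAdj K).homEquiv_naturality_left _ _).symm.trans ?_
    refine Eq.trans ?_ ((DCoh.RSheafHomAdj K).homEquiv_naturality_right _ _)
    exact congrArg ((DCoh.RSheafHomAdj K).homEquiv _ _) ((pairing K I).naturality g)

/-- `nu` is invertible at flat complexes, for perfect `K`. -/
lemma isIso_nu (hK : DCoh.IsKFlat K) (hKp : DCoh.IsPerfect (DerivedCategory.Q.obj K)) [I.IsKInjective]
    [∀ n, Injective (I.X n)] (R : CochainComplex X.Modules ℤ) (hR : DCoh.IsKFlat R)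
    (hR' : ∀ p, FlatMod.IsFlat (R.X p)) : IsIso ((nu K I).app R) := by
  obtain ⟨J, s, hJ, hs, -, hJi⟩ := Groth.Agent.TriCat.exists_kInjective_resolution'.{u}
    ((DCoh.tensorCx.obj R).obj I)
  haveI := hJ
  haveI := hs
  haveI := hJi
  haveI := isIso_cmp K hK J
  haveI := isIso_Q_map _ (quasiIso_evalMap R I J s hR hR' hs K hKp)
  haveI := isIso_Q_map s hs
  have w : (nu K I).app R ≫ (DCoh.RSheafHom K).map (DerivedCategory.Q.map s) =
      DerivedCategory.Q.map (evalMap R I J s K) ≫ cmp K J := by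
    apply ((DCoh.RSheafHomAdj K).homEquiv _ _).symm.injective
    refine ((DCoh.RSheafHomAdj K).homEquiv_naturality_right_symm _ _).trans ?_
    refine Eq.trans ?_ (cmp_key K J _ (evalMap R I J s K)).symm
    simp only [nu, Equiv.symm_apply_apply, evalMap, evalAux, pairing, NatTrans.comp_app,
      Functor.whiskerLeft_app, Functor.whiskerRight_app, Category.assoc, Functor.map_comp]
    rfl
  haveI : IsIso ((nu K I).app R ≫ (DCoh.RSheafHom K).map (DerivedCategory.Q.map s)) := by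
    rw [w]; infer_instance
  exact IsIso.of_isIso_comp_right _ ((DCoh.RSheafHom K).map (DerivedCategory.Q.map s))

omit [DCoh.HasLTensorCx K] [DCoh.HasRSheafHom K] in
/-- `- ⊗^L E` on complexes, through flat resolutions. -/
lemma nonempty_ltensor_kRes (E : CochainComplex X.Modules ℤ) [DCoh.HasLTensorCx E] :
    Nonempty (DerivedCategory.Q ⋙ DCoh.LTensorCx E ≅
      kRes X ⋙ (DCoh.tensorCx (X := X)).flip.obj E ⋙ DerivedCategory.Q) := by
  let w₁ := Functor.whiskerRight (Functor.whiskerRight (flatCover X).ψ DerivedCategory.Q) (DCoh.LTensorCx E)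
  haveI : ∀ P, IsIso (w₁.app P) := fun P =>
    haveI := isIso_Q_map _ ((flatCover X).quasiIso_ψ P)
    inferInstanceAs (IsIso ((DCoh.LTensorCx E).map (DerivedCategory.Q.map ((flatCover X).ψ.app P))))
  haveI := NatIso.isIso_of_isIso_app w₁
  let w₂ := Functor.whiskerLeft (kRes X)
    ((DCoh.tensorCxQ E).totalLeftDerivedCounit DerivedCategory.Q (qisX X))
  haveI : ∀ P, IsIso (w₂.app P) := fun P => isIso_LTensorCx_counit E (isKFlat_kRes P)
  haveI := NatIso.isIso_of_isIso_app w₂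
  exact ⟨(asIso w₁).symm ≪≫ asIso w₂⟩

/-- **`RHom(K, - ⊗^L W) ≅ - ⊗^L RHom(K, W)`**, naturally, for perfect `K`. -/
theorem nonempty_twistDual (hKp : DCoh.IsPerfect (DerivedCategory.Q.obj K))
    (W : CochainComplex X.Modules ℤ) [DCoh.HasLTensorCx W]
    (M : CochainComplex X.Modules ℤ) [DCoh.HasLTensorCx M]
    (hM : Nonempty (DerivedCategory.Q.obj M ≅ (DCoh.RSheafHom K).obj (DerivedCategory.Q.obj W))) :
    Nonempty (DCoh.LTensorCx W ⋙ DCoh.RSheafHom K ≅ DCoh.LTensorCx M) := by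
  obtain ⟨eM⟩ := hM
  let K' := (kRes X).obj K
  haveI hψ := (flatCover X).quasiIso_ψ K
  haveI := hasLTensorCx K'
  haveI := PushAmp.hasRSheafHom K'
  obtain ⟨e⟩ := nonempty_LTensorCx_congr (P := K') (E := K) ((flatCover X).ψ.app K)
  let eR : DCoh.RSheafHom K ≅ DCoh.RSheafHom K' :=
    ((DCoh.RSheafHomAdj K).ofNatIsoLeft e.symm).rightAdjointUniq (DCoh.RSheafHomAdj K')
  have hKp' : DCoh.IsPerfect (DerivedCategory.Q.obj K') :=
    haveI := isIso_Q_map _ hψ
    (isPerfect_iff _).2 (((isPerfect_iff _).1 hKp).of_iso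
      (asIso (DerivedCategory.Q.map ((flatCover X).ψ.app K))).symm)
  obtain ⟨I, hI, hIi, ⟨eI⟩⟩ := exists_kInjective_rep (DerivedCategory.Q.obj W)
  haveI := hI
  haveI := hIi
  haveI := hasLTensorCx I
  haveI := hasLTensorCx ((iHom K').obj I)
  obtain ⟨cW⟩ := nonempty_LTensorCx_congr_D eI
  haveI := isIso_cmp K' (isKFlat_kRes K) I
  obtain ⟨cM⟩ := nonempty_LTensorCx_congr_D (P := (iHom K').obj I) (E := M)
    (asIso (cmp K' I) ≪≫ (eR.app _).symm ≪≫ (DCoh.RSheafHom K).mapIso eI.symm ≪≫ eM.symm)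
  obtain ⟨eH⟩ := nonempty_ltensor_kRes ((iHom K').obj I)
  obtain ⟨eI'⟩ := nonempty_ltensor_kRes I
  let ν := Functor.whiskerLeft (kRes X) (nu K' I)
  haveI : ∀ P, IsIso (ν.app P) := fun P =>
    isIso_nu K' I (isKFlat_kRes K) hKp' _ (isKFlat_kRes P) (isFlat_kRes P)
  haveI := NatIso.isIso_of_isIso_app ν
  let α : DerivedCategory.Q ⋙ DCoh.LTensorCx ((iHom K').obj I) ≅
      DerivedCategory.Q ⋙ DCoh.LTensorCx I ⋙ DCoh.RSheafHom K' :=
    eH ≪≫ asIso ν ≪≫ Functor.isoWhiskerRight eI'.symm (DCoh.RSheafHom K')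
  letI : Localization.Lifting DerivedCategory.Q (qisX X)
      (DerivedCategory.Q ⋙ DCoh.LTensorCx ((iHom K').obj I)) (DCoh.LTensorCx ((iHom K').obj I)) := ⟨Iso.refl _⟩
  letI : Localization.Lifting DerivedCategory.Q (qisX X)
      (DerivedCategory.Q ⋙ DCoh.LTensorCx I ⋙ DCoh.RSheafHom K') (DCoh.LTensorCx I ⋙ DCoh.RSheafHom K') :=
    ⟨Iso.refl _⟩
  exact ⟨Functor.isoWhiskerLeft _ eR ≪≫ Functor.isoWhiskerRight cW (DCoh.RSheafHom K') ≪≫
    (Localization.liftNatIso DerivedCategory.Q (qisX X) _ _ _ _ α).symm ≪≫ cM⟩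

end Groth.Agent.DualTwist
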