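import Groth.Agent.AdjTwist.Main
import Groth.Agent.RBC.Proper
import Groth.Agent.DualTwist.Main
import Groth.Agent.DualTwist.Transport
import Groth.Prelude.Def_DualFM

/-!
# The right adjoint of a Fourier–Mukai functor with perfect kernel
-/

set_option autoImplicit false
set_option linter.style.haveILetI false
set_option backward.isDefEq.respectTransparency false
set_option backward.isDefEq.respectTransparency.types false
set_option maxHeartbeats 800000
set_option synthInstance.maxHeartbeats 400000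

universe u

open CategoryTheory CategoryTheory.Limits AlgebraicGeometry

attribute [local instance] HasDerivedCategory.standard

noncomputable section

namespace Groth.Agent.DualTwist

open Groth.Agent Groth.Agent.KFlatLib

/-- Derived pullback along equal morphisms. -/
lemma nonempty_lpull_congr {A B : Scheme.{u}} {f g : A ⟶ B} (e : f = g) [DCoh.HasLpull f] [DCoh.HasLpull g] :
    Nonempty (DCoh.Lpull f ≅ DCoh.Lpull g) := by
  subst e
  exact ⟨Iso.refl _⟩

/-- Derived pushforward along equal morphisms. -/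
lemma nonempty_rpush_congr {A B : Scheme.{u}} {f g : A ⟶ B} (e : f = g) [DCoh.HasRpush f] [DCoh.HasRpush g] :
    Nonempty (DCoh.Rpush f ≅ DCoh.Rpush g) := by
  subst e
  exact ⟨Iso.refl _⟩

variable {S X Y : Scheme.{u}} (a : X ⟶ S) (b : Y ⟶ S)

/-- `Φ_{Y → X}` with transported kernel, seen on `X ×_S Y`. -/
lemma nonempty_phi_symm (M : CochainComplex (pullback a b).Modules ℤ) [DCoh.HasLTensorCx M]
    [DCoh.HasLpull (pullback.snd a b)] [DCoh.HasRpush (pullback.fst a b)]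
    [DCoh.HasLpull (pullbackSymmetry b a).hom]
    (K' : CochainComplex (pullback b a).Modules ℤ) [DCoh.HasLTensorCx K']
    (hK' : Nonempty (DerivedCategory.Q.obj K' ≅
      (DCoh.Lpull (pullbackSymmetry b a).hom).obj (DerivedCategory.Q.obj M)))
    [DCoh.HasLpull (pullback.fst b a)] [DCoh.HasRpush (pullback.snd b a)] :
    Nonempty (FMK.phi b a K' ≅
      DCoh.Lpull (pullback.snd a b) ⋙ DCoh.LTensorCx M ⋙ DCoh.Rpush (pullback.fst a b)) := by
  let σ := pullbackSymmetry b a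
  haveI := hasLpull (σ.hom ≫ pullback.snd a b)
  haveI := hasRpush_scheme σ.hom
  haveI := hasRpush_scheme (σ.hom ≫ pullback.fst a b)
  obtain ⟨l₁⟩ := nonempty_lpull_congr (pullbackSymmetry_hom_comp_snd b a).symm
  obtain ⟨l₂⟩ := nonempty_lpull_comp σ.hom (pullback.snd a b)
  obtain ⟨r₁⟩ := nonempty_rpush_congr (pullbackSymmetry_hom_comp_fst b a).symm
  obtain ⟨r₂⟩ := nonempty_rpush_comp σ.hom (pullback.fst a b)
  obtain ⟨c⟩ := nonempty_ltensor_lpull σ.hom M K' hK'
  obtain ⟨u₀⟩ := nonempty_lpull_rpush_iso σ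
  let e₁ : FMK.phi b a K' ≅ (DCoh.Lpull (pullback.snd a b) ⋙ DCoh.Lpull σ.hom) ⋙ DCoh.LTensorCx K' ⋙
      DCoh.Rpush σ.hom ⋙ DCoh.Rpush (pullback.fst a b) :=
    Functor.isoWhiskerRight (l₁ ≪≫ l₂.symm) _ ≪≫
      Functor.isoWhiskerLeft _ (Functor.isoWhiskerLeft _ (r₁ ≪≫ r₂.symm))
  exact ⟨e₁ ≪≫ Functor.associator _ _ _ ≪≫ Functor.isoWhiskerLeft _
    ((Functor.associator _ _ _).symm ≪≫ Functor.isoWhiskerRight c.symm _ ≪≫ Functor.associator _ _ _ ≪≫
      Functor.isoWhiskerLeft _ ((Functor.associator _ _ _).symm ≪≫ Functor.isoWhiskerRight u₀ _ ≪≫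
        Functor.leftUnitor _))⟩

/-- **The right adjoint of a Fourier–Mukai functor on `D_QCoh`.** -/
theorem nonempty_phiOn_adjunction [CompactSpace Y] [QuasiSeparatedSpace Y]
    [IsProper a] [Flat a] [LocallyOfFinitePresentation a]
    (K : CochainComplex (pullback a b).Modules ℤ) (hK : DCoh.IsPerfect (DCoh.toD _ K))
    (hKq : DCoh.IsQCohD (DCoh.toD _ K))
    [DCoh.HasLpull (pullback.fst a b)] [DCoh.HasLTensorCx K] [DCoh.HasRpush (pullback.snd a b)]
    [DCoh.HasRSheafHom K]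
    (hR : DCoh.RpushPreservesQCoh (pullback.snd a b)) [DCoh.HasShriek (pullback.snd a b) hR]
    (OY : DCoh.DQCoh Y) (hOY : OY.obj ≅ DCoh.inD Y (Coh.structureModule Y))
    [DCoh.HasLpull (pullbackSymmetry b a).hom]
    (K' : CochainComplex (pullback b a).Modules ℤ)
    (hK' : Nonempty (DCoh.toD _ K' ≅ (DCoh.Lpull (pullbackSymmetry b a).hom).obj
      ((DCoh.RSheafHom K).obj (DCoh.dualizingCx (pullback.snd a b) hR OY))))
    [DCoh.HasLpull (pullback.fst b a)] [DCoh.HasLTensorCx K'] [DCoh.HasRpush (pullback.snd b a)]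
    (h : ∀ M : DCoh.D X, DCoh.IsQCohD M → DCoh.IsQCohD ((FMK.phi a b K).obj M))
    (h' : ∀ N : DCoh.D Y, DCoh.IsQCohD N → DCoh.IsQCohD ((FMK.phi b a K').obj N)) :
    Nonempty (FMK.phiOn a b K DCoh.IsQCohD DCoh.IsQCohD h ⊣ FMK.phiOn b a K' DCoh.IsQCohD DCoh.IsQCohD h') := by
  obtain ⟨eK'⟩ := hK'
  let q := pullback.snd a b
  let p := pullback.fst a b
  haveI : IsProper q := inferInstance
  haveI : Flat q := inferInstance
  haveI : LocallyOfFinitePresentation q := inferInstance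
  haveI : CompactSpace (pullback a b : Scheme.{u}) := QuasiCompact.compactSpace_of_compactSpace q
  haveI : QuasiSeparatedSpace (pullback a b : Scheme.{u}) := quasiSeparatedSpace_of_quasiSeparated q
  haveI := hasLpull q
  haveI := hasRpush_scheme p
  let ω := DCoh.dualizingCx q hR OY
  let E := DerivedCategory.Q.objPreimage ω
  haveI := hasLTensorCx E
  obtain ⟨eA⟩ := AdjTwist.nonempty_rightAdjoint_iso q hR (DCoh.shriek q hR) (DCoh.shriekAdj q hR)
    (fun J => AdjSupp.preservesSums_rightAdjoint q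
      (fun P hP => RBC.isPerfect_rpush_flat_proper q hP) hR _ (DCoh.shriekAdj q hR) J)
    OY ⟨hOY⟩ E ⟨DerivedCategory.Q.objObjPreimageIso ω⟩
  let M := DerivedCategory.Q.objPreimage ((DCoh.RSheafHom K).obj ω)
  haveI := hasLTensorCx M
  obtain ⟨eT⟩ := nonempty_twistDual K hK E M
    ⟨DerivedCategory.Q.objObjPreimageIso _ ≪≫
      (DCoh.RSheafHom K).mapIso (DerivedCategory.Q.objObjPreimageIso ω).symm⟩
  obtain ⟨eΦ⟩ := nonempty_phi_symm a b M K'
    ⟨eK' ≪≫ (DCoh.Lpull _).mapIso (DerivedCategory.Q.objObjPreimageIso _).symm⟩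
  obtain ⟨adp⟩ := nonempty_lpull_rpush_adj p
  let ad₀ := adp.comp (DCoh.RSheafHomAdj K)
  let ιX := (DCoh.IsQCohD (X := X)).ι
  let ιY := (DCoh.IsQCohD (X := Y)).ι
  let L₁ : DCoh.DQCoh X ⥤ DCoh.DQCoh (pullback a b) :=
    ObjectProperty.lift DCoh.IsQCohD (ιX ⋙ DCoh.Lpull p ⋙ DCoh.LTensorCx K)
      (fun N => isQCohD_ltensor K hKq (isQCohD_lpull p N.property))
  let R := FMK.phiOn b a K' DCoh.IsQCohD DCoh.IsQCohD h'
  let e₂ : DCoh.shriek q hR ⋙ ObjectProperty.ι _ ⋙ (DCoh.RSheafHom K ⋙ DCoh.Rpush p) ≅ R ⋙ ιX :=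
    (Functor.associator _ _ _).symm ≪≫ Functor.isoWhiskerRight eA _ ≪≫
      Functor.associator _ _ _ ≪≫ Functor.isoWhiskerLeft ιY
        (Functor.associator _ _ _ ≪≫ Functor.isoWhiskerLeft _
          ((Functor.associator _ _ _).symm ≪≫ Functor.isoWhiskerRight eT _) ≪≫ eΦ.symm)
  obtain ⟨g⟩ := nonempty_adj_glue ιX (DCoh.IsQCohD (X := pullback a b)).ι ad₀ L₁ (Iso.refl _)
    (DCoh.shriekAdj q hR) R e₂
  exact ⟨g.ofNatIsoLeft (NatIso.ofComponents (fun N => Iso.refl _)
    (fun {N N'} φ => by apply ObjectProperty.hom_ext; simp [L₁, FMK.phi, FMK.phiOn]; rfl))⟩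

end Groth.Agent.DualTwist
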