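import Groth.Agent.KFlatLib.Scheme.ProjClosed
import Groth.Agent.DualTwist.FMAdjoint

/-!
# The Fourier–Mukai functor of the diagonal
-/

set_option autoImplicit false
set_option linter.style.haveILetI false
set_option backward.isDefEq.respectTransparency false
set_option backward.isDefEq.respectTransparency.types false
set_option maxHeartbeats 800000
set_option synthInstance.maxHeartbeats 400000

universe u

open CategoryTheory CategoryTheory.Limits AlgebraicGeometry

attribute [local instance] HasDerivedCategory.standard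

noncomputable section

namespace Groth.Agent.DualTwist

open Groth.Agent Groth.Agent.KFlatLib

variable {X Y : Scheme.{u}} (f : X ⟶ Y)

/-- For a closed immersion the unit to `Rf_*` is invertible on every complex. -/
lemma isIso_rpushUnit_closed [IsClosedImmersion f] [DCoh.HasRpush f] (C : CochainComplex X.Modules ℤ) :
    IsIso ((rpushUnit f).app C) := by
  haveI : PreservesFiniteColimits (Scheme.Modules.pushforward f) :=
    ⟨fun J _ _ => preservesColimitsOfShape_push f J⟩
  obtain ⟨J, s, hJ, hs⟩ := exists_kInjective_res C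
  haveI := hJ
  haveI := hs
  haveI := isIso_Q_map s hs
  haveI : QuasiIso ((mapCx (Scheme.Modules.pushforward f)).map s) := inferInstance
  haveI h1 := isIso_Q_map ((mapCx (Scheme.Modules.pushforward f)).map s) inferInstance
  haveI := isIso_rpushUnit_of_kInjective f J
  have w := (rpushUnit f).naturality s
  simp only [Functor.comp_map] at w
  haveI : IsIso ((rpushUnit f).app C ≫ (DCoh.Rpush f).map (DerivedCategory.Q.map s)) := by
    rw [← w]
    exact IsIso.comp_isIso' h1 inferInstance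
  exact IsIso.of_isIso_comp_right _ ((DCoh.Rpush f).map (DerivedCategory.Q.map s))

/-- `- ⊗ f_*O ≅ f_* f^*` for a closed immersion. -/
lemma nonempty_tensor_pushStructure [IsClosedImmersion f] :
    Nonempty ((DCoh.tensorBi (X := Y)).flip.obj ((Scheme.Modules.pushforward f).obj (Coh.structureModule X)) ≅
      Scheme.Modules.pullback f ⋙ Scheme.Modules.pushforward f) := by
  let O := Coh.structureModule X
  let η : (DCoh.tensorBi (X := Y)).obj ((Scheme.Modules.pushforward f).obj O) ⟶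
      Scheme.Modules.pullback f ⋙ (DCoh.tensorBi (X := X)).obj O ⋙ Scheme.Modules.pushforward f :=
    { app := fun N => projMod f O N
      naturality := fun _ _ g => projMod_naturality_right f O g }
  haveI : ∀ N, IsIso (η.app N) := fun N => isIso_projMod_of_isClosedImmersion f O N
  haveI := NatIso.isIso_of_isIso_app η
  exact ⟨(tensorBiFlipIso Y).app _ ≪≫ asIso η ≪≫ Functor.isoWhiskerLeft _
    (Functor.isoWhiskerRight (((tensorBiFlipIso X).app O).symm ≪≫ tensorStructureIso X) _ ≪≫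
      Functor.leftUnitor _)⟩

/-- Twisting by `f_*O` is `Rf_* Lf^*` for a closed immersion. -/
lemma nonempty_ltensor_closed [IsClosedImmersion f] [DCoh.HasRpush f] [DCoh.HasLpull f]
    (K : CochainComplex Y.Modules ℤ) [DCoh.HasLTensorCx K]
    (hK : Nonempty (DerivedCategory.Q.obj K ≅
      DCoh.inD Y ((Scheme.Modules.pushforward f).obj (Coh.structureModule X)))) :
    Nonempty (DCoh.LTensorCx K ≅ DCoh.Lpull f ⋙ DCoh.Rpush f) := by
  obtain ⟨eK⟩ := hK
  let M := (Scheme.Modules.pushforward f).obj (Coh.structureModule X)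
  let T := (HomologicalComplex.single Y.Modules (ComplexShape.up ℤ) 0).obj M
  haveI := hasLTensorCx T
  obtain ⟨c⟩ := nonempty_LTensorCx_congr_D (P := K) (E := T)
    (eK ≪≫ (DerivedCategory.singleFunctorIsoCompQ Y.Modules 0).app M)
  obtain ⟨e₁⟩ := nonempty_ltensor_flat T
  obtain ⟨e₂⟩ := nonempty_tensor_pushStructure f
  let e₃ : (DCoh.tensorCx (X := Y)).flip.obj T ≅ pullCx f ⋙ pushCxF f :=
    singleIso (DCoh.tensorBi (X := Y)) M ≪≫ NatIso.mapHomologicalComplex e₂ (ComplexShape.up ℤ) ≪≫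
      (Functor.mapHomologicalComplexCompIso (Iso.refl _) (ComplexShape.up ℤ)).symm
  let w := Functor.whiskerLeft (kRes Y ⋙ pullCx f) (rpushUnit f)
  haveI : ∀ N, IsIso (w.app N) := fun N => isIso_rpushUnit_closed f _
  haveI := NatIso.isIso_of_isIso_app w
  let α : DerivedCategory.Q ⋙ DCoh.LTensorCx T ≅ (DerivedCategory.Q ⋙ DCoh.Lpull f) ⋙ DCoh.Rpush f :=
    e₁ ≪≫ Functor.isoWhiskerLeft (kRes Y) (Functor.isoWhiskerRight e₃ DerivedCategory.Q) ≪≫ asIso w ≪≫
      Functor.isoWhiskerRight (lpullResIso f).symm (DCoh.Rpush f)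
  letI : Localization.Lifting DerivedCategory.Q (qisX Y)
      ((DerivedCategory.Q ⋙ DCoh.Lpull f) ⋙ DCoh.Rpush f) (DCoh.Lpull f ⋙ DCoh.Rpush f) :=
    ⟨(Functor.associator _ _ _).symm⟩
  exact ⟨c ≪≫ Localization.liftNatIso DerivedCategory.Q (qisX Y)
    (DerivedCategory.Q ⋙ DCoh.LTensorCx T) _ _ _ α⟩

/-- **The diagonal kernel gives the identity.** -/
theorem nonempty_phi_diagonal {S X : Scheme.{u}} (a : X ⟶ S) [IsSeparated a]
    (K : CochainComplex (pullback a a).Modules ℤ) (hK : Nonempty (DCoh.toD _ K ≅ FMK.diagO a))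
    [DCoh.HasLpull (pullback.fst a a)] [DCoh.HasLTensorCx K] [DCoh.HasRpush (pullback.snd a a)] :
    Nonempty (FMK.phi a a K ≅ 𝟭 (DCoh.D X)) := by
  let Δ := pullback.diagonal a
  haveI := hasLpull Δ
  haveI := hasRpush_scheme Δ
  haveI := hasLpull (Δ ≫ pullback.fst a a)
  haveI := hasLpull (𝟙 X)
  haveI := hasRpush_scheme (Δ ≫ pullback.snd a a)
  haveI := hasRpush_scheme (𝟙 X)
  obtain ⟨eT⟩ := nonempty_ltensor_closed Δ K hK
  obtain ⟨l₁⟩ := nonempty_lpull_comp Δ (pullback.fst a a)
  obtain ⟨l₂⟩ := nonempty_lpull_congr (pullback.diagonal_fst a)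
  obtain ⟨l₃⟩ := nonempty_lpull_id (X := X)
  obtain ⟨r₁⟩ := nonempty_rpush_comp Δ (pullback.snd a a)
  obtain ⟨r₂⟩ := nonempty_rpush_congr (pullback.diagonal_snd a)
  obtain ⟨ad⟩ := nonempty_lpull_rpush_adj (𝟙 X)
  let r₃ : DCoh.Rpush (𝟙 X) ≅ 𝟭 (DCoh.D X) := (ad.ofNatIsoLeft l₃).rightAdjointUniq Adjunction.id
  exact ⟨Functor.isoWhiskerLeft _ (Functor.isoWhiskerRight eT _ ≪≫ Functor.associator _ _ _) ≪≫
    (Functor.associator _ _ _).symm ≪≫ Functor.isoWhiskerRight (l₁ ≪≫ l₂ ≪≫ l₃) _ ≪≫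
    Functor.leftUnitor _ ≪≫ r₁ ≪≫ r₂ ≪≫ r₃⟩

end Groth.Agent.DualTwist
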