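import Groth.Agent.RBC.Formal
import Groth.Agent.KFlatLib.Scheme.TildePull
import Groth.Agent.KFlatLib.Scheme.TildeD
import Groth.Agent.KFlatLib.Scheme.RHomLocal
import Groth.Agent.KFlatLib.Ring.DualizingDescent
import Groth.Agent.KFlatLib.Ring.DualizingFlat
import Groth.Prelude.Def_DualSch

/-!
# Dualizing complexes on schemes are a local notion
-/

set_option autoImplicit false
set_option linter.style.haveILetI false
set_option backward.isDefEq.respectTransparency false
set_option maxHeartbeats 600000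

universe u

open CategoryTheory CategoryTheory.Limits AlgebraicGeometry TopologicalSpace

attribute [local instance] HasDerivedCategory.standard

noncomputable section

namespace Groth.Agent.DualTwist

open Groth.Agent Groth.Agent.KFlatLib

/-- `tildeD` reflects isomorphism of objects. -/
lemma nonempty_iso_of_tildeD {R : CommRingCat.{u}} [PreservesFiniteLimits (tilde.functor R)]
    {M N : DerivedCategory (ModuleCat.{u} R)} (e : (DCoh.tildeD R).obj M ≅ (DCoh.tildeD R).obj N) :
    Nonempty (M ≅ N) := by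
  obtain ⟨f, hf⟩ := (tildeD_map_bijective M N).2 e.hom
  obtain ⟨g, hg⟩ := (tildeD_map_bijective N M).2 e.inv
  exact ⟨⟨f, g, (tildeD_map_bijective M M).1 (by simp [hf, hg]),
    (tildeD_map_bijective N N).1 (by simp [hf, hg])⟩⟩

/-- Away localisations of a ring with a dualizing complex. -/
lemma isDualizing_away {A : Type u} [CommRing A] (g : A) {ω : Dual.D A} (hω : Dual.IsDualizing A ω)
    [DTen.HasLBase (algebraMap A (Localization.Away g))] :
    Dual.IsDualizing (Localization.Away g) ((DTen.LBase (algebraMap A (Localization.Away g))).obj ω) := by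
  haveI := hω.isNoetherianRing
  haveI : IsNoetherianRing (Localization.Away g) :=
    IsLocalization.isNoetherianRing (Submonoid.powers g) _ inferInstance
  haveI : Module.Flat A (Localization.Away g) := IsLocalization.flat _ (Submonoid.powers g)
  exact isDualizing_LBase hω fun n _ =>
    ⟨n.comap (algebraMap A _), IsLocalization.map_comap (Submonoid.powers g) _ n⟩

variable {X : Scheme.{u}}

attribute [local instance] hasLpull

/-- Restriction along a composite. -/
lemma nonempty_rho_comp {U V : Scheme.{u}} (k : V ⟶ U) (j : U ⟶ X) [IsOpenImmersion k] [IsOpenImmersion j]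
    (l : V ⟶ X) [IsOpenImmersion l] (h : k ≫ j = l) :
    Nonempty (rho j ⋙ rho k ≅ rho l) := by
  obtain ⟨a⟩ := RBC.nonempty_lpull_rho j
  obtain ⟨b⟩ := RBC.nonempty_lpull_rho k
  obtain ⟨c⟩ := RBC.nonempty_lpull_rho l
  obtain ⟨d⟩ := RBC.nonempty_lpull_comp' h
  exact ⟨Functor.isoWhiskerRight a.symm _ ≪≫ Functor.isoWhiskerLeft _ b.symm ≪≫ d ≪≫ c⟩

variable [∀ R : CommRingCat.{u}, PreservesFiniteLimits (tilde.functor R)]

/-- A complex which is dualizing on an affine cover is dualizing on every affine open. -/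
theorem exists_dualizing_of_cover [IsLocallyNoetherian X] (K : DCoh.D X) {ι : Type u} (A : ι → Type u)
    [∀ i, CommRing (A i)] (j : ∀ i, Spec (CommRingCat.of (A i)) ⟶ X) [∀ i, IsOpenImmersion (j i)]
    (hcov : ∀ x : X, ∃ i, x ∈ Set.range (j i))
    (hK : ∀ i, ∃ ω : Dual.D (A i), Dual.IsDualizing (A i) ω ∧
      Nonempty ((rho (j i)).obj K ≅ (DCoh.tildeD (CommRingCat.of (A i))).obj ω))
    (A₀ : Type u) [CommRing A₀] (j₀ : Spec (CommRingCat.of A₀) ⟶ X) [IsOpenImmersion j₀] :
    ∃ ω : Dual.D A₀, Dual.IsDualizing A₀ ω ∧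
      Nonempty ((rho j₀).obj K ≅ (DCoh.tildeD (CommRingCat.of A₀)).obj ω) := by
  haveI : IsLocallyNoetherian (Spec (CommRingCat.of A₀)) := isLocallyNoetherian_of_isOpenImmersion j₀
  haveI : IsNoetherianRing A₀ := by
    haveI := IsLocallyNoetherian.component_noetherian (X := Spec (CommRingCat.of A₀))
      ⟨⊤, isAffineOpen_top _⟩
    exact isNoetherianRing_of_ringEquiv _ (Scheme.ΓSpecIso (CommRingCat.of A₀)).commRingCatIsoToRingEquiv
  have hKq : DCoh.IsQCohD ((rho j₀).obj K) := by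
    refine isQCohD_rho j₀ fun n => isQCoh_HD_of_local K n fun x => ?_
    obtain ⟨i, hi⟩ := hcov x
    obtain ⟨ω, -, ⟨e⟩⟩ := hK i
    exact ⟨_, j i, inferInstance, hi, isQCohD_of_iso e.symm (isQCohD_tildeD (CommRingCat.of (A i)) ω) n⟩
  obtain ⟨ω, ⟨eω⟩⟩ := exists_tildeD_iso hKq
  refine ⟨ω, ?_, ⟨eω.symm⟩⟩
  have key : ∀ x : Spec (CommRingCat.of A₀), ∃ (i : ι) (g : A i)
      (k : Spec (CommRingCat.of (Localization.Away g)) ⟶ Spec (CommRingCat.of A₀)),
      IsOpenImmersion k ∧
      k ≫ j₀ = Spec.map (CommRingCat.ofHom (algebraMap (A i) (Localization.Away g))) ≫ j i ∧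
      x ∈ Set.range k := by
    intro x
    obtain ⟨i, y, hy⟩ := hcov (j₀ x)
    obtain ⟨_, ⟨_, ⟨g, rfl⟩, rfl⟩, hyg, hsub⟩ := PrimeSpectrum.isBasis_basic_opens.exists_subset_of_mem_open
      (show y ∈ ((j i ⁻¹ᵁ j₀.opensRange : (Spec (CommRingCat.of (A i))).Opens) : Set _) from ⟨x, hy.symm⟩)
      (j i ⁻¹ᵁ j₀.opensRange).isOpen
    let l := Spec.map (CommRingCat.ofHom (algebraMap (A i) (Localization.Away g))) ≫ j i
    have hl : Set.range l ⊆ Set.range j₀ := by
      rintro _ ⟨z, rfl⟩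
      refine hsub ?_
      have hz : (Spec.map (CommRingCat.ofHom (algebraMap (A i) (Localization.Away g)))) z ∈
          Set.range (PrimeSpectrum.comap (algebraMap (A i) (Localization.Away g))) := ⟨z, rfl⟩
      rw [PrimeSpectrum.localization_away_comap_range (Localization.Away g) g] at hz
      exact hz
    haveI : IsOpenImmersion l := inferInstance
    let k := IsOpenImmersion.lift j₀ l hl
    haveI : IsOpenImmersion (k ≫ j₀) := by rw [IsOpenImmersion.lift_fac]; infer_instance
    refine ⟨i, g, k, IsOpenImmersion.of_comp k j₀,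
      IsOpenImmersion.lift_fac _ _ _, ?_⟩
    have hy' : y ∈ Set.range (PrimeSpectrum.comap (algebraMap (A i) (Localization.Away g))) := by
      rw [PrimeSpectrum.localization_away_comap_range (Localization.Away g) g]
      exact hyg
    obtain ⟨z, hz⟩ := hy'
    refine ⟨z, j₀.isOpenEmbedding.injective ?_⟩
    rw [← Scheme.Hom.comp_apply, IsOpenImmersion.lift_fac, Scheme.Hom.comp_apply, ← hy]
    exact congrArg _ hz
  choose i g k hk hfac hx using key
  obtain ⟨t, ht⟩ := isCompact_univ.elim_finite_subcover (fun x => Set.range (k x))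
    (fun x => (hk x).base_open.isOpen_range) (fun x _ => Set.mem_iUnion.2 ⟨x, hx x⟩)
  let B : t → Type u := fun s => Localization.Away (g s.1)
  letI : ∀ s : t, Algebra A₀ (B s) := fun s => (Spec.preimage (k s.1)).hom.toAlgebra
  have hmap : ∀ s : t, Spec.map (CommRingCat.ofHom (algebraMap A₀ (B s))) = k s.1 := fun s =>
    Spec.map_preimage (k s.1)
  haveI : ∀ s : t, Module.Flat A₀ (B s) := fun s => by
    haveI := hk s.1
    have : Flat (Spec.map (CommRingCat.ofHom (algebraMap A₀ (B s)))) := by rw [hmap]; infer_instance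
    exact (HasRingHomProperty.Spec_iff (P := @Flat)).1 this
  haveI := fun s : t => hasLBase (algebraMap A₀ (B s))
  refine isDualizing_of_finite_family (B := B) (fun m hm => ?_) fun s => ?_
  · obtain ⟨x, hxt, z, hz⟩ := Set.mem_iUnion₂.1 (ht (Set.mem_univ (⟨m, hm.isPrime⟩ : PrimeSpectrum A₀)))
    refine ⟨⟨x, hxt⟩, fun htop => z.isPrime.ne_top (top_le_iff.1 (htop ▸ Ideal.map_le_iff_le_comap.2 ?_))⟩
    rw [← hmap ⟨x, hxt⟩] at hz
    exact (congrArg PrimeSpectrum.asIdeal hz).ge
  · haveI := hk s.1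
    haveI := hasLBase (algebraMap (A (i s.1)) (Localization.Away (g s.1)))
    obtain ⟨ωi, hωi, ⟨ei⟩⟩ := hK (i s.1)
    let ρ := algebraMap (A (i s.1)) (Localization.Away (g s.1))
    let σ := algebraMap A₀ (B s)
    haveI := H9Misc.DRingLBase.hasLBaseChange ρ
    haveI := H9Misc.DRingLBase.hasLBaseChange σ
    haveI : IsOpenImmersion (Spec.map (CommRingCat.ofHom σ)) := by rw [hmap]; infer_instance
    haveI : IsOpenImmersion (Spec.map (CommRingCat.ofHom ρ)) := inferInstance
    haveI : IsOpenImmersion (Spec.map (CommRingCat.ofHom ρ) ≫ j (i s.1)) := inferInstance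
    obtain ⟨tρ⟩ := nonempty_tildeD_lpull_iso ρ
    obtain ⟨tσ⟩ := nonempty_tildeD_lpull_iso σ
    obtain ⟨bρ⟩ := nonempty_LBaseChange_iso ρ
    obtain ⟨bσ⟩ := nonempty_LBaseChange_iso σ
    obtain ⟨pρ⟩ := RBC.nonempty_lpull_rho (Spec.map (CommRingCat.ofHom ρ))
    obtain ⟨pσ⟩ := RBC.nonempty_lpull_rho (Spec.map (CommRingCat.ofHom σ))
    obtain ⟨c₁⟩ := nonempty_rho_comp (Spec.map (CommRingCat.ofHom ρ)) (j (i s.1))
      (Spec.map (CommRingCat.ofHom ρ) ≫ j (i s.1)) rfl
    obtain ⟨c₂⟩ := nonempty_rho_comp (Spec.map (CommRingCat.ofHom σ)) j₀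
      (Spec.map (CommRingCat.ofHom ρ) ≫ j (i s.1)) (by rw [hmap]; exact hfac s.1)
    refine isDualizing_of_iso ?_ (isDualizing_away (g s.1) hωi)
    exact (nonempty_iso_of_tildeD ((DCoh.tildeD _).mapIso (bρ.app ωi).symm ≪≫ tρ.app ωi ≪≫ pρ.app _ ≪≫
      (rho _).mapIso ei.symm ≪≫ c₁.app K ≪≫ c₂.symm.app K ≪≫ (rho _).mapIso eω.symm ≪≫ (pσ.app _).symm ≪≫
      (tσ.app ω).symm ≪≫ (DCoh.tildeD _).mapIso (bσ.app ω))).some

end Groth.Agent.DualTwist
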