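import Groth.Agent.DualTwist.DualizingCover
import Groth.Agent.KFlatLib.Ring.DualizingFibreRows
import Groth.Agent.GorFib.Charts
import Groth.Prelude.Def_Dual3

/-!
# Dualizing complexes along flat Gorenstein morphisms
-/

set_option autoImplicit false
set_option linter.style.haveILetI false
set_option backward.isDefEq.respectTransparency false
set_option maxHeartbeats 800000

universe u

open CategoryTheory CategoryTheory.Limits AlgebraicGeometry TopologicalSpace

attribute [local instance] HasDerivedCategory.standard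

noncomputable section

namespace Groth.Agent.DualTwist

open Groth.Agent Groth.Agent.KFlatLib

variable {X Y : Scheme.{u}}

/-- The derived pullback in a chart. -/
lemma nonempty_rho_lpull (f : X ⟶ Y) [DCoh.HasLpull f]
    [∀ R : CommRingCat.{u}, PreservesFiniteLimits (tilde.functor R)]
    {A B : Type u} [CommRing A] [CommRing B] [Algebra A B] [DTen.HasLBase (algebraMap A B)]
    (j : Spec (CommRingCat.of B) ⟶ X) [IsOpenImmersion j]
    (a : Spec (CommRingCat.of A) ⟶ Y) [IsOpenImmersion a]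
    (h : Spec.map (CommRingCat.ofHom (algebraMap A B)) ≫ a = j ≫ f) (K : DCoh.D Y) (ω : Dual.D A)
    (e : (rho a).obj K ≅ (DCoh.tildeD (CommRingCat.of A)).obj ω) :
    Nonempty ((rho j).obj ((DCoh.Lpull f).obj K) ≅
      (DCoh.tildeD (CommRingCat.of B)).obj ((DTen.LBase (algebraMap A B)).obj ω)) := by
  haveI := hasLpull j
  haveI := hasLpull a
  haveI := hasLpull (Spec.map (CommRingCat.ofHom (algebraMap A B)))
  haveI := hasLpull (j ≫ f)
  haveI := H9Misc.DRingLBase.hasLBaseChange (algebraMap A B)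
  obtain ⟨pj⟩ := RBC.nonempty_lpull_rho j
  obtain ⟨pa⟩ := RBC.nonempty_lpull_rho a
  obtain ⟨c₁⟩ := RBC.nonempty_lpull_comp' (rfl : j ≫ f = j ≫ f)
  obtain ⟨c₂⟩ := RBC.nonempty_lpull_comp' h
  obtain ⟨t⟩ := nonempty_tildeD_lpull_iso (algebraMap A B)
  obtain ⟨b⟩ := nonempty_LBaseChange_iso (algebraMap A B)
  exact ⟨(pj.app _).symm ≪≫ c₁.app K ≪≫ (c₂.app K).symm ≪≫
    (DCoh.Lpull _).mapIso (pa.app K ≪≫ e) ≪≫ (t.app ω).symm ≪≫ (DCoh.tildeD _).mapIso (b.app ω)⟩

/-- Pullback along a Gorenstein morphism of finite type preserves dualizing complexes. -/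
theorem exists_dualizing_lpull [IsLocallyNoetherian X]
    [∀ R : CommRingCat.{u}, PreservesFiniteLimits (tilde.functor R)]
    (f : X ⟶ Y) [LocallyOfFiniteType f] (hf : Dual3.IsGorensteinMor f) [DCoh.HasLpull f] (K : DCoh.D Y)
    (hK : ∀ (A : Type u) [CommRing A] (a : Spec (CommRingCat.of A) ⟶ Y) [IsOpenImmersion a],
      ∃ ω : Dual.D A, Dual.IsDualizing A ω ∧ Nonempty ((rho a).obj K ≅ (DCoh.tildeD (CommRingCat.of A)).obj ω))
    (B₀ : Type u) [CommRing B₀] (j₀ : Spec (CommRingCat.of B₀) ⟶ X) [IsOpenImmersion j₀] :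
    ∃ ω : Dual.D B₀, Dual.IsDualizing B₀ ω ∧
      Nonempty ((rho j₀).obj ((DCoh.Lpull f).obj K) ≅ (DCoh.tildeD (CommRingCat.of B₀)).obj ω) := by
  haveI := GorFib.flat_of_gorensteinMor f hf
  have hch : ∀ x : X, ∃ (B : Type u) (_ : CommRing B) (j : Spec (CommRingCat.of B) ⟶ X) (_ : IsOpenImmersion j),
      x ∈ Set.range j ∧ ∃ ω : Dual.D B, Dual.IsDualizing B ω ∧
        Nonempty ((rho j).obj ((DCoh.Lpull f).obj K) ≅ (DCoh.tildeD (CommRingCat.of B)).obj ω) := by
    intro x
    obtain ⟨_, ⟨V, hV, rfl⟩, hxV, -⟩ := Y.isBasis_affineOpens.exists_subset_of_mem_open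
      (Set.mem_univ (f x)) isOpen_univ
    let a : Spec (CommRingCat.of Γ(Y, V)) ⟶ Y := IsAffineOpen.fromSpec hV
    haveI : IsOpenImmersion a := inferInstanceAs (IsOpenImmersion (IsAffineOpen.fromSpec hV))
    obtain ⟨B, hB, hAlg, j, hj, hx, h⟩ := GorFib.exists_chart f a x
      (by rw [show Set.range a = _ from IsAffineOpen.range_fromSpec hV]; exact hxV)
    refine ⟨B, hB, j, hj, hx, ?_⟩
    obtain ⟨ω, hω, ⟨e⟩⟩ := hK Γ(Y, V) a
    haveI := hω.isNoetherianRing
    haveI := GorFib.flat_algebraMap_of_chart f j a h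
    haveI := GorFib.finiteType_of_chart f j a h
    haveI : IsNoetherianRing B := Algebra.FiniteType.isNoetherianRing Γ(Y, V) B
    haveI := hasLBase (algebraMap Γ(Y, V) B)
    refine ⟨_, isDualizing_LBase_of_gorenstein_fibres hω
      (ringKrullDim_lt_top_of_finiteType (A := Γ(Y, V)) (ringKrullDim_lt_top_of_isDualizing hω))
      (fun q => ((GorFib.gorAt_Spec_iff q).1 ((GorFib.gorAt_chart_iff f j a h q).1 (hf (j q)))).2),
      nonempty_rho_lpull f j a h K ω e⟩
  choose B hB j hj hx hω using hch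
  exact exists_dualizing_of_cover ((DCoh.Lpull f).obj K) B j (fun x => ⟨x, hx x⟩) hω B₀ j₀

/-- Dualizing complexes descend along flat surjections which are locally of finite type. -/
theorem exists_dualizing_of_lpull [IsLocallyNoetherian Y]
    [∀ R : CommRingCat.{u}, PreservesFiniteLimits (tilde.functor R)]
    (f : X ⟶ Y) [Surjective f] [Flat f] [LocallyOfFiniteType f] [DCoh.HasLpull f] (K : DCoh.DQCoh Y)
    (hK : ∀ (B : Type u) [CommRing B] (j : Spec (CommRingCat.of B) ⟶ X) [IsOpenImmersion j],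
      ∃ ω : Dual.D B, Dual.IsDualizing B ω ∧
        Nonempty ((rho j).obj ((DCoh.Lpull f).obj K.obj) ≅ (DCoh.tildeD (CommRingCat.of B)).obj ω))
    (A : Type u) [CommRing A] (a : Spec (CommRingCat.of A) ⟶ Y) [IsOpenImmersion a] :
    ∃ ω : Dual.D A, Dual.IsDualizing A ω ∧
      Nonempty ((rho a).obj K.obj ≅ (DCoh.tildeD (CommRingCat.of A)).obj ω) := by
  haveI : IsLocallyNoetherian (Spec (CommRingCat.of A)) := isLocallyNoetherian_of_isOpenImmersion a
  haveI : IsNoetherianRing A := by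
    haveI := IsLocallyNoetherian.component_noetherian (X := Spec (CommRingCat.of A)) ⟨⊤, isAffineOpen_top _⟩
    exact isNoetherianRing_of_ringEquiv _ (Scheme.ΓSpecIso (CommRingCat.of A)).commRingCatIsoToRingEquiv
  obtain ⟨ω, ⟨eω⟩⟩ := exists_tildeD_iso (isQCohD_rho a K.property)
  refine ⟨ω, ?_, ⟨eω.symm⟩⟩
  have hch : ∀ p : PrimeSpectrum A, ∃ (B : Type u) (_ : CommRing B) (_ : Algebra A B)
      (j : Spec (CommRingCat.of B) ⟶ X) (_ : IsOpenImmersion j),
      Spec.map (CommRingCat.ofHom (algebraMap A B)) ≫ a = j ≫ f ∧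
        p ∈ Set.range (PrimeSpectrum.comap (algebraMap A B)) := by
    intro p
    obtain ⟨x, hx⟩ := f.surjective (a p)
    obtain ⟨B, hB, hAlg, j, hj, ⟨q, hq⟩, h⟩ := GorFib.exists_chart f a x ⟨p, hx.symm⟩
    refine ⟨B, hB, hAlg, j, hj, h, q, a.isOpenEmbedding.injective ?_⟩
    rw [← hx, ← hq]
    exact (Scheme.Hom.comp_apply _ a q).symm.trans ((congrArg (fun g => g q) h).trans (Scheme.Hom.comp_apply j f q))
  choose B hB hAlg j hj h hp using hch
  haveI hfl : ∀ p, Module.Flat A (B p) := fun p =>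
    haveI := hj p
    GorFib.flat_algebraMap_of_chart f (j p) a (h p)
  have hopen : ∀ p, IsOpen (Set.range (PrimeSpectrum.comap (algebraMap A (B p)))) := fun p => by
    haveI := hj p
    haveI := GorFib.finiteType_of_chart f (j p) a (h p)
    haveI : Algebra.FinitePresentation A (B p) := Algebra.FinitePresentation.of_finiteType.1 inferInstance
    exact PrimeSpectrum.isOpenMap_comap_of_hasGoingDown_of_finitePresentation.isOpen_range
  obtain ⟨t, ht⟩ := isCompact_univ.elim_finite_subcover _ hopen fun p _ => Set.mem_iUnion.2 ⟨p, hp p⟩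
  haveI := fun s : t => hasLBase (algebraMap A (B s.1))
  refine isDualizing_of_finite_family (B := fun s : t => B s.1) (fun m hm => ?_) fun s => ?_
  · obtain ⟨p, hpt, z, hz⟩ := Set.mem_iUnion₂.1 (ht (Set.mem_univ (⟨m, hm.isPrime⟩ : PrimeSpectrum A)))
    refine ⟨⟨p, hpt⟩, fun htop => z.isPrime.ne_top (top_le_iff.1 (htop ▸ Ideal.map_le_iff_le_comap.2 ?_))⟩
    exact (congrArg PrimeSpectrum.asIdeal hz).ge
  · haveI := hj s.1
    obtain ⟨ω', hω', ⟨e'⟩⟩ := hK (B s.1) (j s.1)
    obtain ⟨e⟩ := nonempty_rho_lpull f (j s.1) a (h s.1) K.obj ω eω.symm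
    exact isDualizing_of_iso (nonempty_iso_of_tildeD (e'.symm ≪≫ e)).some hω'

end Groth.Agent.DualTwist
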