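import Groth.Agent.DualTwist.BCFlatOver
import Groth.Agent.DualTwist.ConvPull
import Groth.Agent.RBC.FibreH0

/-!
# Base change of kernels of relative equivalences
-/

set_option autoImplicit false
set_option linter.style.haveILetI false
set_option backward.isDefEq.respectTransparency false
set_option maxHeartbeats 600000

universe u

open CategoryTheory CategoryTheory.Limits AlgebraicGeometry

attribute [local instance] HasDerivedCategory.standard

noncomputable section

namespace Groth.Agent.DualTwist

open Groth.Agent Groth.Agent.KFlatLib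

variable {S S' X Y : Scheme.{u}} (a : X ⟶ S) (b : Y ⟶ S) (g : S' ⟶ S)

lemma isPullback_bcMap : IsPullback (bcMap a b g)
    (pullback.fst (pullback.snd a g) (pullback.snd b g) ≫ pullback.snd a g) (pullback.fst a b ≫ a) g := by
  have w : bcMap a b g ≫ pullback.fst a b ≫ a =
      (pullback.fst (pullback.snd a g) (pullback.snd b g) ≫ pullback.snd a g) ≫ g := by
    rw [reassoc_of% (bcMap_fst a b g), Category.assoc, pullback.condition (f := a) (g := g)]
  refine ⟨⟨w⟩, ⟨PullbackCone.IsLimit.mk w (fun s => pullback.lift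
      (pullback.lift (s.fst ≫ pullback.fst a b) s.snd (by rw [Category.assoc]; exact s.condition))
      (pullback.lift (s.fst ≫ pullback.snd a b) s.snd
        (by rw [Category.assoc, ← pullback.condition]; exact s.condition))
      (by rw [pullback.lift_snd, pullback.lift_snd])) ?_ ?_ ?_⟩⟩
  · intro s
    apply pullback.hom_ext
    · rw [Category.assoc, bcMap_fst, pullback.lift_fst_assoc, pullback.lift_fst]
    · rw [Category.assoc, bcMap_snd, pullback.lift_snd_assoc, pullback.lift_fst]
  · intro s
    rw [pullback.lift_fst_assoc, pullback.lift_snd]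
  · intro s k h₁ h₂
    apply pullback.hom_ext
    · apply pullback.hom_ext
      · rw [pullback.lift_fst, pullback.lift_fst, ← h₁, Category.assoc, Category.assoc, bcMap_fst]
      · rw [pullback.lift_fst, pullback.lift_snd, ← h₂, Category.assoc]
    · apply pullback.hom_ext
      · rw [pullback.lift_snd, pullback.lift_fst, ← h₁, Category.assoc, Category.assoc, bcMap_snd]
      · rw [pullback.lift_snd, pullback.lift_snd, ← h₂, Category.assoc]
        exact congrArg (k ≫ ·) pullback.condition.symm

lemma isPullback_diagonal_bcMap : IsPullback (pullback.fst a g) (pullback.diagonal (pullback.snd a g))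
    (pullback.diagonal a) (bcMap a a g) := by
  have w : pullback.fst a g ≫ pullback.diagonal a =
      pullback.diagonal (pullback.snd a g) ≫ bcMap a a g := by
    apply pullback.hom_ext
    · rw [Category.assoc, Category.assoc, pullback.diagonal_fst, bcMap_fst, pullback.diagonal_fst_assoc,
        Category.comp_id]
    · rw [Category.assoc, Category.assoc, pullback.diagonal_snd, bcMap_snd, pullback.diagonal_snd_assoc,
        Category.comp_id]
  refine ⟨⟨w⟩, ⟨PullbackCone.IsLimit.mk w (fun s => s.snd ≫ pullback.fst _ _) ?_ ?_ ?_⟩⟩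
  · intro s
    have h := congrArg (· ≫ pullback.fst a a) s.condition
    simp only [Category.assoc, bcMap_fst, pullback.diagonal_fst, Category.comp_id] at h
    rw [Category.assoc, ← h]
  · intro s
    apply pullback.hom_ext
    · rw [Category.assoc, pullback.diagonal_fst, Category.comp_id]
    · rw [Category.assoc, pullback.diagonal_snd, Category.comp_id]
      apply pullback.hom_ext
      · have h₁ := congrArg (· ≫ pullback.fst a a) s.condition
        have h₂ := congrArg (· ≫ pullback.snd a a) s.condition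
        simp only [Category.assoc, bcMap_fst, bcMap_snd, pullback.diagonal_fst, pullback.diagonal_snd,
          Category.comp_id] at h₁ h₂
        rw [Category.assoc, Category.assoc, ← h₁, h₂]
      · rw [Category.assoc, Category.assoc, pullback.condition]
  · intro s k _ h₂
    rw [← h₂, Category.assoc, pullback.diagonal_fst, Category.comp_id]

/-- The structure sheaf of the diagonal commutes with base change for a flat morphism. -/
theorem nonempty_lpull_diagO [Flat a] [IsSeparated a] [DCoh.HasLpull (bcMap a a g)] :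
    Nonempty ((DCoh.Lpull (bcMap a a g)).obj (FMK.diagO a) ≅ FMK.diagO (pullback.snd a g)) := by
  let Δ := pullback.diagonal a
  let Δ' := pullback.diagonal (pullback.snd a g)
  haveI : IsSeparated (pullback.snd a g) := MorphismProperty.pullback_snd _ _ ‹IsSeparated a›
  haveI : IsClosedImmersion Δ := inferInstance
  haveI : IsClosedImmersion Δ' := inferInstance
  haveI := hasRpush_scheme Δ
  haveI := hasRpush_scheme Δ'
  haveI := hasLpull (pullback.fst a g)
  haveI : Flat (pullback.fst a a) := MorphismProperty.pullback_fst _ _ ‹Flat a›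
  haveI : Flat (pullback.fst a a ≫ a) := inferInstance
  haveI : Flat (Δ ≫ pullback.fst a a ≫ a) := by rw [pullback.diagonal_fst_assoc]; infer_instance
  have hq : DCoh.IsQCohD (DCoh.inD X (Coh.structureModule X)) := RBC.isQCohD_oD' X 0
  obtain ⟨e₁⟩ := RBC.nonempty_bc_iso (isPullback_diagonal_bcMap a g).w
    (bc_of_flat_over (isPullback_bcMap a a g) (isPullback_diagonal_bcMap a g) _ hq)
  obtain ⟨e₂⟩ := RBC.nonempty_lpull_oD (pullback.fst a g) 0 (Iso.refl (DCoh.Lpull (pullback.fst a g)))
  obtain ⟨r⟩ := RBC.nonempty_rpush_inD Δ (QCoh.isQCoh_structureModule (X := X))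
  obtain ⟨r'⟩ := RBC.nonempty_rpush_inD Δ' (QCoh.isQCoh_structureModule (X := pullback a g))
  exact ⟨(DCoh.Lpull (bcMap a a g)).mapIso r.symm ≪≫ e₁ ≪≫ (DCoh.Rpush Δ').mapIso e₂ ≪≫ r'⟩

/-- **Relative equivalence kernels are stable under base change.** -/
theorem isRelEquivKernel_baseChange [Flat a] [IsProper a] [Flat b] [IsProper b]
    (K : CochainComplex (pullback a b).Modules ℤ)
    [DCoh.HasLpull (FMK.p12 a b a)] [DCoh.HasRpush (FMK.p13 a b a)]
    [∀ L : CochainComplex (FMK.T a b a).Modules ℤ, DCoh.HasLTensorCx L]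
    [DCoh.HasLpull (FMK.p12 b a b)] [DCoh.HasRpush (FMK.p13 b a b)]
    [∀ L : CochainComplex (FMK.T b a b).Modules ℤ, DCoh.HasLTensorCx L]
    (hK : FMK.IsRelEquivKernel a b K)
    [DCoh.HasLpull (FMK.p12 (pullback.snd a g) (pullback.snd b g) (pullback.snd a g))]
    [DCoh.HasRpush (FMK.p13 (pullback.snd a g) (pullback.snd b g) (pullback.snd a g))]
    [∀ L : CochainComplex (FMK.T (pullback.snd a g) (pullback.snd b g) (pullback.snd a g)).Modules ℤ,
      DCoh.HasLTensorCx L]
    [DCoh.HasLpull (FMK.p12 (pullback.snd b g) (pullback.snd a g) (pullback.snd b g))]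
    [DCoh.HasRpush (FMK.p13 (pullback.snd b g) (pullback.snd a g) (pullback.snd b g))]
    [∀ L : CochainComplex (FMK.T (pullback.snd b g) (pullback.snd a g) (pullback.snd b g)).Modules ℤ,
      DCoh.HasLTensorCx L]
    [DCoh.HasLpull (bcMap a b g)]
    (K₁ : CochainComplex (pullback (pullback.snd a g) (pullback.snd b g)).Modules ℤ)
    (hK₁ : Nonempty (DCoh.toD _ K₁ ≅ (DCoh.Lpull (bcMap a b g)).obj (DCoh.toD _ K))) :
    FMK.IsRelEquivKernel (pullback.snd a g) (pullback.snd b g) K₁ := by
  obtain ⟨hKp, K', hK', ⟨eA⟩, ⟨eB⟩⟩ := hK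
  haveI := hasLpull (bcMap b a g)
  haveI := hasLpull (bcMap a a g)
  haveI := hasLpull (bcMap b b g)
  obtain ⟨eK⟩ := hK₁
  let E := (DCoh.Lpull (bcMap b a g)).obj (DCoh.toD _ K')
  let K'₁ := DerivedCategory.Q.objPreimage E
  let eK' : DCoh.toD _ K'₁ ≅ E := DerivedCategory.Q.objObjPreimageIso E
  refine ⟨DQGen.isPerfect_of_iso eK.symm (isPerfect_lpull _ hKp), K'₁,
    DQGen.isPerfect_of_iso eK'.symm (isPerfect_lpull _ hK'), ?_, ?_⟩
  · obtain ⟨d⟩ := nonempty_lpull_diagO a g
    obtain ⟨c⟩ := nonempty_pull_conv a b a g K K' (DQGen.isQCohD_of_isPerfect hKp)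
      (DQGen.isQCohD_of_isPerfect hK') K₁ ⟨eK⟩ K'₁ ⟨eK'⟩
    exact ⟨d.symm ≪≫ (DCoh.Lpull _).mapIso eA ≪≫ c⟩
  · obtain ⟨d⟩ := nonempty_lpull_diagO b g
    obtain ⟨c⟩ := nonempty_pull_conv b a b g K' K (DQGen.isQCohD_of_isPerfect hK')
      (DQGen.isQCohD_of_isPerfect hKp) K'₁ ⟨eK'⟩ K₁ ⟨eK⟩
    exact ⟨d.symm ≪≫ (DCoh.Lpull _).mapIso eB ≪≫ c⟩

end Groth.Agent.DualTwist
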