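import Groth.Agent.DualTwist.DualizingCover
import Groth.Agent.RGammaI.GorLocus
import Groth.Agent.KFlatLib.Ring.DualizingDimension
import Groth.Agent.KFlatLib.Scheme.LocalDevissage
import Groth.Agent.S3621
import Groth.Agent.KFlatLib.Ring.ShriekPerfect
import Groth.Prelude.Def_HTor
import Groth.Prelude.Def_Dual3

/-!
# The structure sheaf of a Gorenstein scheme with a dualizing complex is dualizing
-/

set_option autoImplicit false
set_option linter.style.haveILetI false
set_option backward.isDefEq.respectTransparency false
set_option maxHeartbeats 600000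

universe u

open CategoryTheory CategoryTheory.Limits AlgebraicGeometry

attribute [local instance] HasDerivedCategory.standard

noncomputable section

namespace Groth.Agent.DualTwist

open Groth.Agent Groth.Agent.KFlatLib

/-- A ring with a dualizing complex and Gorenstein local rings is dualizing over itself. -/
theorem isDualizing_self_of_gorenstein {A : Type u} [CommRing A] {ω : Dual.D A} (hω : Dual.IsDualizing A ω)
    (hG : ∀ p : PrimeSpectrum A, LocCoh.IsGorensteinLocalRing (Localization.AtPrime p.asIdeal)) :
    Dual.IsDualizing A (Dual.inD A A) := by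
  haveI := hω.isNoetherianRing
  haveI hGE : (Dual.inD A A).IsGE 0 := inferInstance
  have hfin : ∀ j : ℤ, Module.Finite A (Dual.HD A (Dual.inD A A) j) := fun j => by
    rcases eq_or_ne j 0 with rfl | hj
    · haveI : Module.Finite A ((𝟭 (ModuleCat.{u} A)).obj (ModuleCat.of A A) : Type u) :=
        Module.Finite.self A
      exact Module.Finite.equiv (((DerivedCategory.singleFunctorCompHomologyFunctorIso
        (ModuleCat.{u} A) 0).app (ModuleCat.of A A)).toLinearEquiv.symm)
    · haveI : Subsingleton (Dual.HD A (Dual.inD A A) j) :=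
        H9Misc.DRingTel.subsingleton_homology_inD (A := A) A hj
      infer_instance
  have hloc : ∀ p : PrimeSpectrum A, ∀ [DTen.HasLBase (algebraMap A (Localization.AtPrime p.asIdeal))],
      Dual.IsDualizing (Localization.AtPrime p.asIdeal)
        ((DTen.LBase (algebraMap A (Localization.AtPrime p.asIdeal))).obj (Dual.inD A A)) := by
    intro p _
    haveI := hG p
    obtain ⟨e⟩ := nonempty_LBase_unit (algebraMap A (Localization.AtPrime p.asIdeal))
    exact isDualizing_of_iso (((DTen.LBase _).mapIso
        ((DerivedCategory.singleFunctorIsoCompQ (ModuleCat.{u} A) 0).app (ModuleCat.of A A)) ≪≫ e ≪≫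
        ((DerivedCategory.singleFunctorIsoCompQ (ModuleCat.{u} (Localization.AtPrime p.asIdeal)) 0).app _).symm).symm)
      ((LC.gorenstein_iff_isDualizing _).1 (hG p))
  obtain ⟨b, hb⟩ := exists_injAmplitude_of_local (ringKrullDim_lt_top_of_isDualizing hω) 0 hfin hloc
  exact isDualizing_of_atPrime hb hfin hloc

/-- The structure sheaf of an affine scheme comes from the ring. -/
lemma nonempty_tildeD_self (A : Type u) [CommRing A] [PreservesFiniteLimits (tilde.functor (CommRingCat.of A))] :
    Nonempty ((DCoh.tildeD (CommRingCat.of A)).obj (Dual.inD A A) ≅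
      DCoh.inD (Spec (CommRingCat.of A)) (Coh.structureModule (Spec (CommRingCat.of A)))) :=
  haveI : PreservesFiniteColimits (tilde.functor (CommRingCat.of A)) := QCoh.tilde_preservesFiniteColimits
  ⟨((tilde.functor (CommRingCat.of A)).mapDerivedCategorySingleFunctor 0).app (ModuleCat.of A A) ≪≫
    (DerivedCategory.singleFunctor _ 0).mapIso (tildeSelf (R := CommRingCat.of A))⟩

/-- Gorenstein schemes: existence of a dualizing complex makes `O` dualizing. -/
theorem isDualizingSch_structure (X : Scheme.{u}) (hX : Dual3.IsGorenstein X)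
    [∀ (U V : Scheme.{u}) (j : U ⟶ V) [IsOpenImmersion j], PreservesFiniteLimits (Scheme.Modules.restrictFunctor j)]
    [∀ (R : CommRingCat.{u}), PreservesFiniteLimits (tilde.functor R)] (K : DCoh.D X)
    (hK : Dual2.IsDualizingSch X K) : Dual2.IsDualizingSch X (DCoh.inD X (Coh.structureModule X)) := by
  intro A _ j _
  obtain ⟨ω, hω, -⟩ := hK A j
  haveI := hω.isNoetherianRing
  obtain ⟨e⟩ := nonempty_tildeD_self A
  refine ⟨Dual.inD A A, isDualizing_self_of_gorenstein hω fun p =>
    (S3621.point_iff X A j p).1 (hX.2 (j p)), ⟨?_⟩⟩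
  exact ((Scheme.Modules.restrictFunctor j).mapDerivedCategorySingleFunctor 0).app (Coh.structureModule X) ≪≫
    (DerivedCategory.singleFunctor _ 0).mapIso (restrictStructureIso j) ≪≫ e.symm

end Groth.Agent.DualTwist
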