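import Groth.Agent.DualTwist.Transport
import Groth.Agent.DualTwist.FMAdjoint
import Groth.Agent.RBC.Apps
import Groth.Prelude.Def_DualFM

/-!
# Natural base change and Fourier–Mukai functors
-/

set_option autoImplicit false
set_option linter.style.haveILetI false
set_option backward.isDefEq.respectTransparency false
set_option backward.isDefEq.respectTransparency.types false
set_option maxHeartbeats 800000
set_option synthInstance.maxHeartbeats 400000

universe u

open CategoryTheory CategoryTheory.Limits AlgebraicGeometry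

attribute [local instance] HasDerivedCategory.standard

noncomputable section

namespace Groth.Agent.DualTwist

open Groth.Agent Groth.Agent.KFlatLib

/-- Base change, naturally in the object, on a full subcategory. -/
lemma nonempty_bc_natIso {X S X' S' : Scheme.{u}} {f : X ⟶ S} {g : S' ⟶ S} {f' : X' ⟶ S'} {g' : X' ⟶ X}
    (w : g' ≫ f = f' ≫ g) (P : ObjectProperty (DCoh.D X))
    (h : ∀ E, P E → RBC.BC f g f' g' E)
    [DCoh.HasRpush f] [DCoh.HasRpush f'] [DCoh.HasLpull g] [DCoh.HasLpull g'] :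
    Nonempty (ObjectProperty.ι P ⋙ DCoh.Rpush f ⋙ DCoh.Lpull g ≅
      ObjectProperty.ι P ⋙ DCoh.Lpull g' ⋙ DCoh.Rpush f') := by
  haveI := hasLpull f
  haveI := hasLpull f'
  obtain ⟨a⟩ := nonempty_lpull_rpush_adj f
  obtain ⟨a'⟩ := nonempty_lpull_rpush_adj f'
  obtain ⟨α⟩ := RBC.nonempty_sq_iso f g f' g' w
  let θ := Functor.whiskerLeft (ObjectProperty.ι P) (RBC.bcM a a' α.hom)
  haveI : ∀ E, IsIso (θ.app E) := fun E =>
    h E.obj E.property _ _ _ _ _ _ (Iso.refl _) (Iso.refl _) (Iso.refl _) (Iso.refl _) a a' α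
  haveI := NatIso.isIso_of_isIso_app θ
  exact ⟨asIso θ⟩

/-- **Base change of Fourier–Mukai functors.** -/
theorem nonempty_pull_phi {S S' X Y : Scheme.{u}} (a : X ⟶ S) (b : Y ⟶ S) (g : S' ⟶ S)
    [QuasiCompact a] [QuasiSeparated a] [QuasiCompact b] [QuasiSeparated b]
    (hflat : Flat g ∨ Flat a)
    (h : pullback (pullback.snd a g) (pullback.snd b g) ⟶ pullback a b)
    (h₁ : h ≫ pullback.fst a b = pullback.fst (pullback.snd a g) (pullback.snd b g) ≫ pullback.fst a g)
    (h₂ : h ≫ pullback.snd a b = pullback.snd (pullback.snd a g) (pullback.snd b g) ≫ pullback.fst b g)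
    (hH : IsPullback h (pullback.snd (pullback.snd a g) (pullback.snd b g)) (pullback.snd a b) (pullback.fst b g))
    (K : CochainComplex (pullback a b).Modules ℤ) (hK : DCoh.IsQCohD (DCoh.toD _ K))
    [DCoh.HasLpull (pullback.fst a b)] [DCoh.HasLTensorCx K] [DCoh.HasRpush (pullback.snd a b)]
    [DCoh.HasLpull (pullback.fst a g)] [DCoh.HasLpull (pullback.fst b g)] [DCoh.HasLpull h]
    (K' : CochainComplex (pullback (pullback.snd a g) (pullback.snd b g)).Modules ℤ)
    (hK' : Nonempty (DCoh.toD _ K' ≅ (DCoh.Lpull h).obj (DCoh.toD _ K)))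
    [DCoh.HasLpull (pullback.fst (pullback.snd a g) (pullback.snd b g))] [DCoh.HasLTensorCx K']
    [DCoh.HasRpush (pullback.snd (pullback.snd a g) (pullback.snd b g))] :
    Nonempty (ObjectProperty.ι (DCoh.IsQCohD (X := X)) ⋙ DCoh.Lpull (pullback.fst a g) ⋙
        FMK.phi (pullback.snd a g) (pullback.snd b g) K' ≅
      ObjectProperty.ι (DCoh.IsQCohD (X := X)) ⋙ FMK.phi a b K ⋙ DCoh.Lpull (pullback.fst b g)) := by
  let q := pullback.snd a b
  let q' := pullback.snd (pullback.snd a g) (pullback.snd b g)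
  let p' := pullback.fst (pullback.snd a g) (pullback.snd b g)
  haveI := hasLpull (p' ≫ pullback.fst a g)
  haveI := hasLpull (h ≫ pullback.fst a b)
  obtain ⟨l₁⟩ := nonempty_lpull_comp p' (pullback.fst a g)
  obtain ⟨l₂⟩ := nonempty_lpull_comp h (pullback.fst a b)
  obtain ⟨l₃⟩ := nonempty_lpull_congr h₁
  obtain ⟨c⟩ := nonempty_ltensor_lpull h K K' hK'
  have hbc : ∀ E, DCoh.IsQCohD E → RBC.BC q (pullback.fst b g) q' h E := fun E hE => by
    rcases hflat with hg | ha
    · haveI := hg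
      haveI : Flat (pullback.fst b g) := MorphismProperty.pullback_fst _ _ hg
      exact RBC.bc_of_flat_right hH E hE
    · haveI := ha
      haveI : Flat q := MorphismProperty.pullback_snd _ _ ha
      exact RBC.bc_of_flat_left hH E hE
  obtain ⟨β⟩ := nonempty_bc_natIso h₂ DCoh.IsQCohD hbc
  let ιX := (DCoh.IsQCohD (X := X)).ι
  let Φ : DCoh.DQCoh X ⥤ DCoh.DQCoh (pullback a b) :=
    ObjectProperty.lift DCoh.IsQCohD (ιX ⋙ DCoh.Lpull (pullback.fst a b) ⋙ DCoh.LTensorCx K)
      fun M => isQCohD_ltensor K hK (isQCohD_lpull _ M.property)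
  let e₁ : DCoh.Lpull (pullback.fst a g) ⋙ DCoh.Lpull p' ⋙ DCoh.LTensorCx K' ≅
      (DCoh.Lpull (pullback.fst a b) ⋙ DCoh.LTensorCx K) ⋙ DCoh.Lpull h :=
    (Functor.associator _ _ _).symm ≪≫ Functor.isoWhiskerRight (l₁ ≪≫ l₃.symm ≪≫ l₂.symm) _ ≪≫
      Functor.associator _ _ _ ≪≫ Functor.isoWhiskerLeft _ c.symm ≪≫ (Functor.associator _ _ _).symm
  exact ⟨Functor.isoWhiskerLeft ιX (Functor.isoWhiskerRight e₁ (DCoh.Rpush q')) ≪≫
    Functor.isoWhiskerLeft Φ β.symm⟩

end Groth.Agent.DualTwist
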