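import Groth.Agent.DualTwist.ProjNat
import Groth.Agent.DualTwist.PhiBaseChange
import Groth.Agent.AdjTwist.Main

/-!
# Composition of Fourier–Mukai functors
-/

set_option autoImplicit false
set_option linter.style.haveILetI false
set_option backward.isDefEq.respectTransparency false
set_option backward.isDefEq.respectTransparency.types false
set_option maxHeartbeats 1000000
set_option synthInstance.maxHeartbeats 400000

universe u

open CategoryTheory CategoryTheory.Limits AlgebraicGeometry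

attribute [local instance] HasDerivedCategory.standard

noncomputable section

namespace Groth.Agent.DualTwist

open Groth.Agent Groth.Agent.KFlatLib

variable {X Y : Scheme.{u}}

/-- `Rf_*(Lf^*(-) ⊗^L C) ≅ - ⊗^L Rf_*C`, naturally. -/
theorem nonempty_proj_pull (f : X ⟶ Y) [QuasiCompact f] [QuasiSeparated f] [DCoh.HasRpush f]
    [DCoh.HasLpull f] (C : CochainComplex X.Modules ℤ) [DCoh.HasLTensorCx C]
    (hC : DCoh.IsQCohD (DCoh.toD X C)) (N : CochainComplex Y.Modules ℤ) [DCoh.HasLTensorCx N]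
    (hN : Nonempty (DCoh.toD Y N ≅ (DCoh.Rpush f).obj (DCoh.toD X C))) :
    Nonempty (ObjectProperty.ι (DCoh.IsQCohD (X := Y)) ⋙ DCoh.LTensorCx N ≅
      ObjectProperty.ι (DCoh.IsQCohD (X := Y)) ⋙ DCoh.Lpull f ⋙ DCoh.LTensorCx C ⋙ DCoh.Rpush f) := by
  obtain ⟨eN⟩ := hN
  obtain ⟨J, s, hJ, hs⟩ := exists_kInjective_res C
  haveI := hJ
  haveI := hs
  haveI := isIso_Q_map s hs
  have hJq : DCoh.IsQCohD (DerivedCategory.Q.obj J) :=
    isQCohD_of_iso (asIso (DerivedCategory.Q.map s)) hC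
  let R := (kRes Y).obj ((pushCxF f).obj J)
  let r : R ⟶ (pushCxF f).obj J := (flatCover Y).ψ.app _
  haveI : QuasiIso r := (flatCover Y).quasiIso_ψ _
  haveI := isIso_Q_map r inferInstance
  haveI := hasLTensorCx R
  haveI := hasLTensorCx J
  haveI := isIso_rpushUnit_of_kInjective f J
  obtain ⟨cN⟩ := nonempty_LTensorCx_congr_D (P := R) (E := N) (asIso (DerivedCategory.Q.map r) ≪≫
    asIso ((rpushUnit f).app J) ≪≫ ((DCoh.Rpush f).mapIso (asIso (DerivedCategory.Q.map s))).symm ≪≫ eN.symm)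
  obtain ⟨cC⟩ := nonempty_LTensorCx_congr_D (P := J) (E := C) (asIso (DerivedCategory.Q.map s)).symm
  obtain ⟨eH⟩ := AdjTwist.nonempty_projH_iso f J
  obtain ⟨eT⟩ := nonempty_ltensor_flat R
  letI : Localization.Lifting DerivedCategory.Q (qisX Y) (DerivedCategory.Q ⋙ projF R) (projF R) :=
    ⟨Iso.refl _⟩
  let eF : DCoh.LTensorCx R ≅ projF R := Localization.liftNatIso DerivedCategory.Q (qisX Y)
    (DerivedCategory.Q ⋙ DCoh.LTensorCx R) (DerivedCategory.Q ⋙ projF R) _ _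
    (eT ≪≫ Functor.isoWhiskerLeft (kRes Y)
      (Functor.isoWhiskerRight (symmIso (tensorBiFlipIso Y) R) DerivedCategory.Q) ≪≫
      (kLiftFac (kRespects_tensor R)).symm)
  let θ := Functor.whiskerLeft (DCoh.IsQCohD (X := Y)).ι (projθ f J r)
  haveI : ∀ K, IsIso (θ.app K) := fun K => by
    let eK := DerivedCategory.Q.objObjPreimageIso K.obj
    exact (NatTrans.isIso_app_iff_of_iso (projθ f J r) eK).1
      (isIso_projθ f J r (isKFlat_kRes _) hJq _ (isQCohD_of_iso eK.symm K.property))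
  haveI := NatIso.isIso_of_isIso_app θ
  exact ⟨Functor.isoWhiskerLeft _ (cN.symm ≪≫ eF) ≪≫ asIso θ ≪≫
    Functor.isoWhiskerLeft _ (Functor.isoWhiskerRight (eH ≪≫ Functor.isoWhiskerLeft _ cC) (DCoh.Rpush f))⟩

/-- **Composition of Fourier–Mukai functors is convolution of kernels.** -/
theorem nonempty_phi_comp {S X Y Z : Scheme.{u}} (a : X ⟶ S) (b : Y ⟶ S) (c : Z ⟶ S)
    [QuasiCompact a] [QuasiSeparated a] [QuasiCompact b] [QuasiSeparated b] [QuasiCompact c] [QuasiSeparated c]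
    (hflat : Flat a ∨ Flat c)
    (K : CochainComplex (pullback a b).Modules ℤ) (M : CochainComplex (pullback b c).Modules ℤ)
    (hK : DCoh.IsQCohD (DCoh.toD _ K)) (hM : DCoh.IsQCohD (DCoh.toD _ M))
    [DCoh.HasLpull (pullback.fst a b)] [DCoh.HasLTensorCx K] [DCoh.HasRpush (pullback.snd a b)]
    [DCoh.HasLpull (pullback.fst b c)] [DCoh.HasLTensorCx M] [DCoh.HasRpush (pullback.snd b c)]
    [DCoh.HasLpull (FMK.p12 a b c)] [DCoh.HasLpull (FMK.p23 a b c)] [DCoh.HasRpush (FMK.p13 a b c)]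
    [DCoh.HasLpull (pullback.fst a c)] [DCoh.HasRpush (pullback.snd a c)]
    (L : CochainComplex (FMK.T a b c).Modules ℤ) [DCoh.HasLTensorCx L]
    (hL : Nonempty (DCoh.toD _ L ≅ (DCoh.Lpull (FMK.p23 a b c)).obj (DCoh.toD _ M)))
    (N : CochainComplex (pullback a c).Modules ℤ) [DCoh.HasLTensorCx N]
    (hN : Nonempty (DCoh.toD _ N ≅ FMK.conv a b c K L)) :
    Nonempty (ObjectProperty.ι (DCoh.IsQCohD (X := X)) ⋙ FMK.phi a c N ≅
      ObjectProperty.ι (DCoh.IsQCohD (X := X)) ⋙ FMK.phi a b K ⋙ FMK.phi b c M) := by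
  let p := FMK.p12 a b c
  let q := FMK.p23 a b c
  let r := FMK.p13 a b c
  let ιX := (DCoh.IsQCohD (X := X)).ι
  haveI : QuasiCompact q := inferInstance
  haveI : QuasiSeparated q := inferInstance
  haveI : QuasiCompact (r ≫ pullback.snd a c) := by rw [FMK.p13_snd]; infer_instance
  haveI : QuasiSeparated (r ≫ pullback.snd a c) := by rw [FMK.p13_snd]; infer_instance
  haveI : QuasiCompact r := QuasiCompact.of_comp r (pullback.snd a c)
  haveI : QuasiSeparated r := QuasiSeparated.of_comp r (pullback.snd a c)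
  haveI := hasRpush_scheme q
  haveI := hasLpull r
  haveI := hasRpush_scheme (r ≫ pullback.snd a c)
  haveI := hasRpush_scheme (q ≫ pullback.snd b c)
  haveI := hasLpull (p ≫ pullback.fst a b)
  haveI := hasLpull (r ≫ pullback.fst a c)
  have H : IsPullback p q (pullback.snd a b) (pullback.fst b c) := IsPullback.of_hasPullback _ _
  obtain ⟨β⟩ := nonempty_bc_natIso (f := pullback.snd a b) (g := pullback.fst b c) (f' := q) (g' := p) H.w
    (DCoh.IsQCohD (X := pullback a b)) fun E hE => by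
      rcases hflat with ha | hc
      · haveI := ha
        haveI : Flat (pullback.snd a b) := MorphismProperty.pullback_snd _ _ ha
        exact RBC.bc_of_flat_left H E hE
      · haveI := hc
        haveI : Flat (pullback.fst b c) := MorphismProperty.pullback_fst _ _ hc
        exact RBC.bc_of_flat_right H E hE
  obtain ⟨π⟩ := nonempty_proj_natIso q M hM L hL
  obtain ⟨eL⟩ := hL
  have hLq : DCoh.IsQCohD (DerivedCategory.Q.obj L) := isQCohD_of_iso eL.symm (isQCohD_lpull q hM)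
  -- the kernel upstairs
  obtain ⟨K₁, _, ⟨eK₁⟩⟩ := exists_kFlat_rep ((DCoh.Lpull p).obj (DerivedCategory.Q.obj K))
  obtain ⟨L₁, hL₁, ⟨eL₁⟩⟩ := exists_kFlat_rep (DerivedCategory.Q.obj L)
  haveI := hasLTensorCx K₁
  haveI := hasLTensorCx L₁
  let C := (DCoh.tensorCx.obj K₁).obj L₁
  haveI := hasLTensorCx C
  obtain ⟨cKL⟩ := nonempty_LTensorCx_comp K₁ L₁ hL₁
  obtain ⟨cL⟩ := nonempty_LTensorCx_congr_D eL₁
  obtain ⟨cK⟩ := nonempty_ltensor_lpull p K K₁ ⟨eK₁⟩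
  have hK₁ : DCoh.IsQCohD (DerivedCategory.Q.obj K₁) := isQCohD_of_iso eK₁.symm (isQCohD_lpull p hK)
  haveI := isIso_LTensorCx_counit_of_isKFlat_right L₁ hL₁ K₁
  let eC : DerivedCategory.Q.obj C ≅ (DCoh.LTensorCx L).obj ((DCoh.Lpull p).obj (DerivedCategory.Q.obj K)) :=
    (asIso (((DCoh.tensorCxQ L₁).totalLeftDerivedCounit DerivedCategory.Q (qisX _)).app K₁)).symm ≪≫
      cL.app _ ≪≫ (DCoh.LTensorCx L).mapIso eK₁
  have hC : DCoh.IsQCohD (DerivedCategory.Q.obj C) :=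
    isQCohD_of_iso eC.symm (isQCohD_ltensor L hLq (isQCohD_lpull p hK))
  obtain ⟨eN⟩ := hN
  obtain ⟨ρ⟩ := nonempty_proj_pull r C hC N ⟨eN ≪≫ ((DCoh.Rpush r).mapIso eC).symm⟩
  obtain ⟨r₁⟩ := nonempty_rpush_comp q (pullback.snd b c)
  obtain ⟨r₂⟩ := nonempty_rpush_comp r (pullback.snd a c)
  obtain ⟨r₃⟩ := nonempty_rpush_congr (FMK.p13_snd a b c)
  obtain ⟨l₁⟩ := nonempty_lpull_comp p (pullback.fst a b)
  obtain ⟨l₂⟩ := nonempty_lpull_comp r (pullback.fst a c)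
  obtain ⟨l₃⟩ := nonempty_lpull_congr (FMK.p13_fst a b c)
  let F₁ : DCoh.DQCoh X ⥤ DCoh.DQCoh (pullback a b) :=
    ObjectProperty.lift DCoh.IsQCohD (ιX ⋙ DCoh.Lpull (pullback.fst a b) ⋙ DCoh.LTensorCx K)
      fun G => isQCohD_ltensor K hK (isQCohD_lpull _ G.property)
  let F₂ : DCoh.DQCoh X ⥤ DCoh.DQCoh (FMK.T a b c) :=
    ObjectProperty.lift DCoh.IsQCohD (ιX ⋙ (DCoh.Lpull (pullback.fst a b) ⋙ DCoh.LTensorCx K) ⋙ DCoh.Lpull p)
      fun G => isQCohD_lpull _ (isQCohD_ltensor K hK (isQCohD_lpull _ G.property))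
  let F₃ : DCoh.DQCoh X ⥤ DCoh.DQCoh (pullback a c) :=
    ObjectProperty.lift DCoh.IsQCohD (ιX ⋙ DCoh.Lpull (pullback.fst a c))
      fun G => isQCohD_lpull _ G.property
  -- the left hand side
  let e₁ : ιX ⋙ FMK.phi a c N ≅
      ((ιX ⋙ DCoh.Lpull (pullback.fst a c) ⋙ DCoh.Lpull r) ⋙ DCoh.LTensorCx C ⋙ DCoh.Rpush r) ⋙
        DCoh.Rpush (pullback.snd a c) :=
    Functor.isoWhiskerRight (Functor.isoWhiskerLeft F₃ ρ) (DCoh.Rpush (pullback.snd a c))
  let e₂ : (DCoh.Lpull (pullback.fst a c) ⋙ DCoh.Lpull r) ⋙ DCoh.LTensorCx C ≅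
      ((DCoh.Lpull (pullback.fst a b) ⋙ DCoh.LTensorCx K) ⋙ DCoh.Lpull p) ⋙ DCoh.LTensorCx L :=
    Functor.isoWhiskerRight (l₂ ≪≫ l₃ ≪≫ l₁.symm) _ ≪≫
      Functor.isoWhiskerLeft _ (cKL.symm ≪≫ Functor.isoWhiskerLeft _ cL) ≪≫
      Functor.isoWhiskerLeft (DCoh.Lpull (pullback.fst a b)) (Functor.isoWhiskerRight cK.symm _)
  let e₃ : ιX ⋙ FMK.phi a b K ⋙ FMK.phi b c M ≅
      ((F₂ ⋙ ObjectProperty.ι _) ⋙ DCoh.Rpush q ⋙ DCoh.LTensorCx M) ⋙ DCoh.Rpush (pullback.snd b c) :=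
    Functor.isoWhiskerRight (Functor.isoWhiskerLeft F₁ β) (DCoh.LTensorCx M ⋙ DCoh.Rpush (pullback.snd b c))
  let e₄ := Functor.isoWhiskerRight (Functor.isoWhiskerLeft F₂ π) (DCoh.Rpush (pullback.snd b c))
  exact ⟨e₁ ≪≫ Functor.isoWhiskerLeft ιX (Functor.isoWhiskerRight e₂ (DCoh.Rpush r ⋙ DCoh.Rpush (pullback.snd a c))) ≪≫
    Functor.isoWhiskerLeft (ιX ⋙ ((DCoh.Lpull (pullback.fst a b) ⋙ DCoh.LTensorCx K) ⋙ DCoh.Lpull p) ⋙
      DCoh.LTensorCx L) (r₂ ≪≫ r₃ ≪≫ r₁.symm) ≪≫ e₄.symm ≪≫ e₃.symm⟩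

end Groth.Agent.DualTwist
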