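import Groth.Agent.DualTwist.Transport
import Groth.Agent.KFlatLib.Scheme.ProjFormula

/-!
# The projection formula, naturally in the pushed object
-/

set_option autoImplicit false
set_option linter.style.haveILetI false
set_option backward.isDefEq.respectTransparency false
set_option backward.isDefEq.respectTransparency.types false
set_option maxHeartbeats 800000
set_option synthInstance.maxHeartbeats 400000

universe u

open CategoryTheory CategoryTheory.Limits AlgebraicGeometry

attribute [local instance] HasDerivedCategory.standard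

noncomputable section

namespace Groth.Agent.DualTwist

open Groth.Agent Groth.Agent.KFlatLib

/-- Transformations defined on K-injective complexes extend to the derived category. -/
lemma nonempty_natIso_of_kInjective {X : Scheme.{u}} {D : Type*} [Category D]
    (P : ObjectProperty (DCoh.D X)) [P.IsClosedUnderIsomorphisms]
    {Φ Ψ : DCoh.D X ⥤ D} {A : CochainComplex X.Modules ℤ ⥤ D}
    (u : A ⟶ DerivedCategory.Q ⋙ Φ) (φ : A ⟶ DerivedCategory.Q ⋙ Ψ)
    (hu : ∀ I : CochainComplex X.Modules ℤ, I.IsKInjective → IsIso (u.app I))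
    (hφ : ∀ I : CochainComplex X.Modules ℤ, I.IsKInjective → P (DerivedCategory.Q.obj I) → IsIso (φ.app I)) :
    Nonempty (ObjectProperty.ι P ⋙ Φ ≅ ObjectProperty.ι P ⋙ Ψ) := by
  choose I hI _ he using fun E : DCoh.D X => exists_kInjective_rep E
  let e := fun E => (he E).some
  haveI : ∀ E, IsIso (u.app (I E)) := fun E => hu _ (hI E)
  let θ : ObjectProperty.ι P ⋙ Φ ⟶ ObjectProperty.ι P ⋙ Ψ :=
    { app := fun E => Φ.map (e E.obj).hom ≫ inv (u.app (I E.obj)) ≫ φ.app (I E.obj) ≫ Ψ.map (e E.obj).inv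
      naturality := fun E E' g => by
        haveI := hI E'.obj
        obtain ⟨h, hh⟩ := exists_Q_map (I := I E'.obj) ((e E.obj).inv ≫ g.hom ≫ (e E'.obj).hom)
        have hu' := u.naturality h
        have hφ' := φ.naturality h
        simp only [Functor.comp_map, hh, Functor.map_comp] at hu' hφ'
        change Φ.map g.hom ≫ _ = (_ ≫ _) ≫ Ψ.map g.hom
        have h1 : Φ.map g.hom ≫ Φ.map (e E'.obj).hom ≫ inv (u.app (I E'.obj)) =
            Φ.map (e E.obj).hom ≫ inv (u.app (I E.obj)) ≫ A.map h := by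
          rw [← cancel_mono (u.app (I E'.obj))]
          simp only [Category.assoc, IsIso.inv_hom_id, Category.comp_id]
          rw [hu', IsIso.inv_hom_id_assoc]
          simp only [← Functor.map_comp, Iso.hom_inv_id_assoc]
        rw [reassoc_of% h1, reassoc_of% hφ']
        simp [← Functor.map_comp] }
  haveI : ∀ E, IsIso (θ.app E) := fun E => by
    haveI : IsIso (φ.app (I E.obj)) := hφ _ (hI _) (P.prop_of_iso (e E.obj) E.property)
    dsimp only [θ]
    infer_instance
  haveI := NatIso.isIso_of_isIso_app θ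
  exact ⟨asIso θ⟩

variable {X Y : Scheme.{u}} (f : X ⟶ Y)

/-- The projection map on complexes is natural in the pushed complex. -/
lemma projCx_naturality_left {R R' : CochainComplex Y.Modules ℤ} {I I' : CochainComplex X.Modules ℤ}
    (a : R ⟶ (pushCxF f).obj I) (a' : R' ⟶ (pushCxF f).obj I') (r : R ⟶ R') (i : I ⟶ I')
    (w : r ≫ a' = a ≫ (pushCxF f).map i) (P : CochainComplex Y.Modules ℤ) :
    (DCoh.tensorCx.map r).app P ≫ projCx f R' I' a' P =
      projCx f R I a P ≫ (pushCxF f).map ((DCoh.tensorCx.map i).app ((pullCx f).obj P)) := by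
  refine ((pullPushCxAdj f).homEquiv_naturality_left _ _).symm.trans ?_
  refine Eq.trans (congrArg _ ?_) ((pullPushCxAdj f).homEquiv_naturality_right _ _)
  have h₁ := (totalMapNatIso (pullTensorBiIso f) P).hom.naturality r
  have hw : (pullCx f).map r ≫ ((pullPushCxAdj f).homEquiv R' I').symm a' =
      ((pullPushCxAdj f).homEquiv R I).symm a ≫ i := by
    rw [← (pullPushCxAdj f).homEquiv_naturality_left_symm, w,
      (pullPushCxAdj f).homEquiv_naturality_right_symm]
  have h₁' : (pullCx f).map ((DCoh.tensorCx.map r).app P) ≫ (pullTensorCxIso f R' P).inv =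
      (pullTensorCxIso f R P).inv ≫ (DCoh.tensorCx.map ((pullCx f).map r)).app ((pullCx f).obj P) := by
    rw [Iso.comp_inv_eq, Category.assoc, Iso.eq_inv_comp]
    exact h₁.symm
  refine ((Category.assoc _ _ _).symm.trans (congrArg (· ≫ _) h₁')).trans ?_
  simp only [Category.assoc]
  refine congrArg (_ ≫ ·) ?_
  rw [← NatTrans.comp_app, ← NatTrans.comp_app, ← Functor.map_comp, ← Functor.map_comp, hw]

/-- **The projection formula, naturally in the pushed object.** -/
theorem nonempty_proj_natIso [QuasiCompact f] [QuasiSeparated f] [DCoh.HasRpush f] [DCoh.HasLpull f]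
    (K : CochainComplex Y.Modules ℤ) (hK : DCoh.IsQCohD (DCoh.toD Y K)) [DCoh.HasLTensorCx K]
    (M : CochainComplex X.Modules ℤ)
    (hM : Nonempty (DCoh.toD X M ≅ (DCoh.Lpull f).obj (DCoh.toD Y K))) [DCoh.HasLTensorCx M] :
    Nonempty (ObjectProperty.ι (DCoh.IsQCohD (X := X)) ⋙ DCoh.Rpush f ⋙ DCoh.LTensorCx K ≅
      ObjectProperty.ι (DCoh.IsQCohD (X := X)) ⋙ DCoh.LTensorCx M ⋙ DCoh.Rpush f) := by
  obtain ⟨eM⟩ := hM
  let P := (kRes Y).obj K
  have hP : DCoh.IsKFlat P := isKFlat_kRes _
  haveI := isIso_Q_map _ ((flatCover Y).quasiIso_ψ K)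
  let eP : DerivedCategory.Q.obj P ≅ DerivedCategory.Q.obj K :=
    asIso (DerivedCategory.Q.map ((flatCover Y).ψ.app K))
  let L := (pullCx f).obj P
  have hL : DCoh.IsKFlat L := isKFlat_pullback f hP
  haveI := hasLTensorCx P
  haveI := hasLTensorCx L
  let cP := (DCoh.tensorCxQ P).totalLeftDerivedCounit DerivedCategory.Q (qisX Y)
  let cL := (DCoh.tensorCxQ L).totalLeftDerivedCounit DerivedCategory.Q (qisX X)
  haveI : ∀ N, IsIso (cP.app N) := fun N => isIso_LTensorCx_counit_of_isKFlat_right P hP N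
  haveI : ∀ N, IsIso (cL.app N) := fun N => isIso_LTensorCx_counit_of_isKFlat_right L hL N
  haveI := NatIso.isIso_of_isIso_app cP
  haveI := NatIso.isIso_of_isIso_app cL
  let ψ := Functor.whiskerLeft (pushCxF f) (flatCover Y).ψ
  let A : CochainComplex X.Modules ℤ ⥤ DCoh.D Y :=
    (pushCxF f ⋙ kRes Y) ⋙ DCoh.tensorCx.flip.obj P ⋙ DerivedCategory.Q
  let φ : A ⟶ DerivedCategory.Q ⋙ DCoh.LTensorCx L ⋙ DCoh.Rpush f :=
    { app := fun I => (projΘ f I (ψ.app I)).app P ≫ (DCoh.Rpush f).map (inv (cL.app I))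
      naturality := fun I I' i => by
        have h := congrArg (fun t => DerivedCategory.Q.map t)
          (projCx_naturality_left f (ψ.app I) (ψ.app I') ((pushCxF f ⋙ kRes Y).map i) i (ψ.naturality i) P)
        simp only [Functor.map_comp] at h
        have hr := (rpushUnit f).naturality ((DCoh.tensorCx.map i).app L)
        have hc : (DCoh.Rpush f).map (DerivedCategory.Q.map ((DCoh.tensorCx.map i).app L)) ≫
            (DCoh.Rpush f).map (inv (cL.app I')) = (DCoh.Rpush f).map (inv (cL.app I)) ≫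
              (DCoh.Rpush f).map ((DCoh.LTensorCx L).map (DerivedCategory.Q.map i)) := by
          rw [← Functor.map_comp, ← Functor.map_comp]
          refine congrArg _ ?_
          rw [IsIso.comp_inv_eq, Category.assoc, IsIso.eq_inv_comp]
          exact (cL.naturality i).symm
        change DerivedCategory.Q.map ((DCoh.tensorCx.map ((pushCxF f ⋙ kRes Y).map i)).app P) ≫
            (DerivedCategory.Q.map (projCx f _ I' (ψ.app I') P) ≫ (rpushUnit f).app _) ≫ _ =
          ((DerivedCategory.Q.map (projCx f _ I (ψ.app I) P) ≫ (rpushUnit f).app _) ≫ _) ≫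
            (DCoh.Rpush f).map ((DCoh.LTensorCx L).map (DerivedCategory.Q.map i))
        simp only [Category.assoc]
        erw [reassoc_of% h]
        erw [reassoc_of% hr, hc]
        rfl }
  let u : A ⟶ DerivedCategory.Q ⋙ DCoh.Rpush f ⋙ DCoh.LTensorCx P :=
    Functor.whiskerLeft (pushCxF f ⋙ kRes Y) (inv cP) ≫
      Functor.whiskerRight (Functor.whiskerRight ψ DerivedCategory.Q) (DCoh.LTensorCx P) ≫
      Functor.whiskerRight (rpushUnit f) (DCoh.LTensorCx P)
  obtain ⟨cK⟩ := nonempty_LTensorCx_congr_D eP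
  obtain ⟨cM⟩ := nonempty_LTensorCx_congr_D (P := L) (E := M)
    ((lpullIso f hP).symm ≪≫ (DCoh.Lpull f).mapIso eP ≪≫ eM.symm)
  haveI : (DCoh.IsQCohD (X := X)).IsClosedUnderIsomorphisms := ⟨isQCohD_of_iso⟩
  obtain ⟨θ⟩ := nonempty_natIso_of_kInjective (DCoh.IsQCohD (X := X)) u φ
    (fun I hI => by
      haveI := isIso_rpushUnit_of_kInjective f I
      haveI := isIso_Q_map _ ((flatCover Y).quasiIso_ψ ((pushCxF f).obj I))
      haveI : IsIso (DerivedCategory.Q.map (ψ.app I)) := ‹_›
      change IsIso ((inv cP).app ((pushCxF f ⋙ kRes Y).obj I) ≫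
        (DCoh.LTensorCx P).map (DerivedCategory.Q.map (ψ.app I)) ≫
        (DCoh.LTensorCx P).map ((rpushUnit f).app I))
      infer_instance)
    fun I hI hIq => by
      let R := (pushCxF f ⋙ kRes Y).obj I
      haveI : QuasiIso (ψ.app I) := (flatCover Y).quasiIso_ψ _
      haveI := isIso_projθ f I (ψ.app I) (R := R) (isKFlat_kRes _) hIq P (isQCohD_of_iso eP.symm hK)
      haveI := isIso_kLiftε (kRespects_tensor R) hP
      haveI := isIso_kLiftε (kRespects_pullTensor f I) hP
      haveI : IsIso ((projΘ f I (ψ.app I)).app P) :=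
        IsIso.of_isIso_fac_left (projθ_comp_ε f I (ψ.app I) P).symm
      change IsIso ((projΘ f I (ψ.app I)).app P ≫ (DCoh.Rpush f).map (inv (cL.app I)))
      infer_instance
  exact ⟨Functor.isoWhiskerLeft _ (Functor.isoWhiskerLeft _ cK.symm) ≪≫ θ ≪≫
    Functor.isoWhiskerLeft _ (Functor.isoWhiskerRight cM _)⟩

end Groth.Agent.DualTwist
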