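import Groth.Agent.DualTwist.ConvPerfect
import Groth.Agent.DualTwist.Diagonal
import Groth.Agent.RBC.Proper

/-!
# Relative equivalence kernels give equivalences
-/

set_option autoImplicit false
set_option linter.style.haveILetI false
set_option backward.isDefEq.respectTransparency false
set_option backward.isDefEq.respectTransparency.types false
set_option maxHeartbeats 800000
set_option synthInstance.maxHeartbeats 400000

universe u

open CategoryTheory CategoryTheory.Limits AlgebraicGeometry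

attribute [local instance] HasDerivedCategory.standard

noncomputable section

namespace Groth.Agent.DualTwist

open Groth.Agent Groth.Agent.KFlatLib

variable {S X Y : Scheme.{u}} (a : X ⟶ S) (b : Y ⟶ S)

/-- Kernels composing to the diagonal give mutually inverse functors on `D_QCoh`. -/
theorem nonempty_roundtrip [Flat a] [IsSeparated a] [QuasiCompact a] [QuasiCompact b] [QuasiSeparated b]
    (K : CochainComplex (pullback a b).Modules ℤ) (K' : CochainComplex (pullback b a).Modules ℤ)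
    (hK : DCoh.IsQCohD (DCoh.toD _ K)) (hK' : DCoh.IsQCohD (DCoh.toD _ K'))
    [DCoh.HasLpull (pullback.fst a b)] [DCoh.HasLTensorCx K] [DCoh.HasRpush (pullback.snd a b)]
    [DCoh.HasLpull (pullback.fst b a)] [DCoh.HasLTensorCx K'] [DCoh.HasRpush (pullback.snd b a)]
    [DCoh.HasLpull (FMK.p12 a b a)] [DCoh.HasRpush (FMK.p13 a b a)]
    [DCoh.HasLTensorCx ((FMK.cxPull (FMK.p23 a b a)).obj K')]
    (e : Nonempty (FMK.diagO a ≅ FMK.conv a b a K ((FMK.cxPull (FMK.p23 a b a)).obj K'))) :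
    Nonempty (ObjectProperty.ι (DCoh.IsQCohD (X := X)) ⋙ FMK.phi a b K ⋙ FMK.phi b a K' ≅
      ObjectProperty.ι (DCoh.IsQCohD (X := X))) := by
  let q := FMK.p23 a b a
  haveI : Flat (pullback.snd a b) := MorphismProperty.pullback_snd _ _ ‹Flat a›
  haveI : Flat q := MorphismProperty.pullback_snd _ _ ‹Flat (pullback.snd a b)›
  haveI := PushAmp.preservesFiniteLimits_pullback_flat q
  haveI := hasLpull q
  haveI := hasLpull (pullback.fst a a)
  haveI := hasRpush_scheme (pullback.snd a a)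
  obtain ⟨eL⟩ := PushAmp.nonempty_lpull_flat q (Iso.refl (DerivedCategory.Q.obj K'))
  obtain ⟨e⟩ := e
  let N := DerivedCategory.Q.objPreimage (FMK.diagO a)
  let eN : DCoh.toD _ N ≅ FMK.diagO a := DerivedCategory.Q.objObjPreimageIso _
  haveI := hasLTensorCx N
  obtain ⟨c⟩ := nonempty_phi_comp a b a (Or.inl ‹Flat a›) K K' hK hK' _ ⟨eL.symm⟩ N ⟨eN ≪≫ e⟩
  obtain ⟨d⟩ := nonempty_phi_diagonal a N ⟨eN⟩
  exact ⟨c.symm ≪≫ Functor.isoWhiskerLeft _ d ≪≫ Functor.rightUnitor _⟩

/-- Functors on full subcategories inverse to each other after inclusion are equivalences. -/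
lemma isEquivalence_of_roundtrip {C D : Type*} [Category C] [Category D] (P : ObjectProperty C) (Q : ObjectProperty D)
    (F : P.FullSubcategory ⥤ Q.FullSubcategory) (G : Q.FullSubcategory ⥤ P.FullSubcategory)
    (h₁ : Nonempty (F ⋙ G ⋙ P.ι ≅ P.ι)) (h₂ : Nonempty (G ⋙ F ⋙ Q.ι ≅ Q.ι)) : F.IsEquivalence := by
  obtain ⟨e₁⟩ := h₁
  obtain ⟨e₂⟩ := h₂
  exact (CategoryTheory.Equivalence.mk F G ((P.fullyFaithfulι.whiskeringRight _).preimageIso (X := F ⋙ G) (Y := 𝟭 _) e₁).symm
    ((Q.fullyFaithfulι.whiskeringRight _).preimageIso (X := G ⋙ F) (Y := 𝟭 _) e₂)).isEquivalence_functor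

/-- Phi functors of quasi-coherent kernels preserve quasi-coherence. -/
lemma isQCohD_phi [QuasiCompact a] [QuasiSeparated a] (K : CochainComplex (pullback a b).Modules ℤ)
    (hK : DCoh.IsQCohD (DCoh.toD _ K))
    [DCoh.HasLpull (pullback.fst a b)] [DCoh.HasLTensorCx K] [DCoh.HasRpush (pullback.snd a b)]
    (M : DCoh.D X) (hM : DCoh.IsQCohD M) : DCoh.IsQCohD ((FMK.phi a b K).obj M) :=
  isQCohD_rpush (pullback.snd a b) (isQCohD_ltensor K hK (isQCohD_lpull _ hM))

/-- Phi functors of perfect kernels preserve perfect objects, for flat proper finitely presented maps. -/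
lemma isPerfect_phi [IsProper a] [Flat a] [LocallyOfFinitePresentation a]
    (K : CochainComplex (pullback a b).Modules ℤ) (hK : DCoh.IsPerfect (DCoh.toD _ K))
    [DCoh.HasLpull (pullback.fst a b)] [DCoh.HasLTensorCx K] [DCoh.HasRpush (pullback.snd a b)]
    (M : DCoh.D X) (hM : SGA6.perfP X M) : SGA6.perfP Y ((FMK.phi a b K).obj M) := by
  haveI : Flat (pullback.snd a b) := MorphismProperty.pullback_snd _ _ ‹Flat a›
  obtain ⟨R, hR, ⟨eR⟩⟩ := exists_kFlat_rep (DCoh.toD _ K)
  haveI := hasLTensorCx R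
  obtain ⟨c⟩ := nonempty_LTensorCx_congr_D eR
  exact RBC.isPerfect_rpush_flat_proper (pullback.snd a b) (DQGen.isPerfect_of_iso (c.app _)
    (isPerfect_ltensor R hR (DQGen.isPerfect_of_iso eR.symm hK) (isPerfect_lpull _ hM)))

variable [IsProper a] [Flat a] [IsProper b] [Flat b]
  (K : CochainComplex (pullback a b).Modules ℤ)
  [DCoh.HasLpull (pullback.fst a b)] [DCoh.HasLTensorCx K] [DCoh.HasRpush (pullback.snd a b)]
  [DCoh.HasLpull (FMK.p12 a b a)] [DCoh.HasRpush (FMK.p13 a b a)]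
  [∀ L : CochainComplex (FMK.T a b a).Modules ℤ, DCoh.HasLTensorCx L]
  [DCoh.HasLpull (FMK.p12 b a b)] [DCoh.HasRpush (FMK.p13 b a b)]
  [∀ L : CochainComplex (FMK.T b a b).Modules ℤ, DCoh.HasLTensorCx L]

/-- `Φ_K` is an equivalence of `D_QCoh`. -/
theorem phiOn_qcoh_isEquivalence (hK : FMK.IsRelEquivKernel a b K)
    (h : ∀ M : DCoh.D X, DCoh.IsQCohD M → DCoh.IsQCohD ((FMK.phi a b K).obj M)) :
    (FMK.phiOn a b K DCoh.IsQCohD DCoh.IsQCohD h).IsEquivalence := by
  obtain ⟨hKp, K', hK', eA, eB⟩ := hK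
  haveI := hasLpull (pullback.fst b a)
  haveI := hasRpush_scheme (pullback.snd b a)
  haveI := hasLTensorCx K'
  have hq := DQGen.isQCohD_of_isPerfect hKp
  have hq' := DQGen.isQCohD_of_isPerfect hK'
  let G := FMK.phiOn b a K' DCoh.IsQCohD DCoh.IsQCohD (isQCohD_phi b a K' hq')
  exact isEquivalence_of_roundtrip _ _ _ G (nonempty_roundtrip a b K K' hq hq' eA)
    (nonempty_roundtrip b a K' K hq' hq eB)

/-- `Φ_K` is an equivalence of perfect objects. -/
theorem phiOn_perf_isEquivalence [LocallyOfFinitePresentation b] (hK : FMK.IsRelEquivKernel a b K)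
    (h : ∀ M : DCoh.D X, SGA6.perfP X M → SGA6.perfP Y ((FMK.phi a b K).obj M)) :
    (FMK.phiOn a b K (SGA6.perfP X) (SGA6.perfP Y) h).IsEquivalence := by
  obtain ⟨hKp, K', hK', eA, eB⟩ := hK
  haveI := hasLpull (pullback.fst b a)
  haveI := hasRpush_scheme (pullback.snd b a)
  haveI := hasLTensorCx K'
  have hq := DQGen.isQCohD_of_isPerfect hKp
  have hq' := DQGen.isQCohD_of_isPerfect hK'
  let G := FMK.phiOn b a K' (SGA6.perfP Y) (SGA6.perfP X) (isPerfect_phi b a K' hK')
  obtain ⟨r⟩ := nonempty_roundtrip a b K K' hq hq' eA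
  obtain ⟨r'⟩ := nonempty_roundtrip b a K' K hq' hq eB
  let J : (SGA6.perfP X).FullSubcategory ⥤ DCoh.DQCoh X :=
    ObjectProperty.lift DCoh.IsQCohD (SGA6.perfP X).ι fun G => DQGen.isQCohD_of_isPerfect G.property
  let J' : (SGA6.perfP Y).FullSubcategory ⥤ DCoh.DQCoh Y :=
    ObjectProperty.lift DCoh.IsQCohD (SGA6.perfP Y).ι fun G => DQGen.isQCohD_of_isPerfect G.property
  exact isEquivalence_of_roundtrip _ _ _ G ⟨Functor.isoWhiskerLeft J r⟩ ⟨Functor.isoWhiskerLeft J' r'⟩

end Groth.Agent.DualTwist
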