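import Groth.Agent.DualTwist.ProjNat

/-!
# The twisted inverse image of derived hom
-/

set_option autoImplicit false
set_option linter.style.haveILetI false
set_option backward.isDefEq.respectTransparency false
set_option maxHeartbeats 600000

universe u

open CategoryTheory CategoryTheory.Limits AlgebraicGeometry Opposite

attribute [local instance] HasDerivedCategory.standard

noncomputable section

namespace Groth.Agent.DualTwist

open Groth.Agent Groth.Agent.KFlatLib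

/-- Morphisms in a full subcategory. -/
def homEquivFS {C : Type*} [Category C] {P : ObjectProperty C} (V W : P.FullSubcategory) :
    (V ⟶ W) ≃ (V.obj ⟶ W.obj) where
  toFun g := g.hom
  invFun g := ObjectProperty.homMk g
  left_inv _ := rfl
  right_inv _ := rfl

/-- `f^! RHom(P, G) ≅ RHom(Lf^*P, f^!G)` when both sides are quasi-coherent. -/
theorem nonempty_shriek_RSheafHom {X Y : Scheme.{u}} (f : X ⟶ Y) [QuasiCompact f] [QuasiSeparated f]
    [DCoh.HasRpush f] [DCoh.HasLpull f] (h : DCoh.RpushPreservesQCoh f) [DCoh.HasShriek f h]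
    (P : CochainComplex Y.Modules ℤ) [DCoh.HasLTensorCx P] [DCoh.HasRSheafHom P]
    (hP : DCoh.IsQCohD (DCoh.toD Y P)) (G₂ : DCoh.DQCoh Y)
    (hq : DCoh.IsQCohD ((DCoh.RSheafHom P).obj G₂.obj))
    (P' : CochainComplex X.Modules ℤ) [DCoh.HasLTensorCx P'] [DCoh.HasRSheafHom P']
    (hP' : Nonempty (DCoh.toD X P' ≅ (DCoh.Lpull f).obj (DCoh.toD Y P)))
    (hq' : DCoh.IsQCohD ((DCoh.RSheafHom P').obj ((DCoh.shriek f h).obj G₂).obj)) :
    Nonempty (((DCoh.shriek f h).obj ⟨(DCoh.RSheafHom P).obj G₂.obj, hq⟩).obj ≅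
      (DCoh.RSheafHom P').obj ((DCoh.shriek f h).obj G₂).obj) := by
  obtain ⟨π⟩ := nonempty_proj_natIso f P hP P' hP'
  obtain ⟨eP⟩ := hP'
  have hP'q : DCoh.IsQCohD (DerivedCategory.Q.obj P') := isQCohD_of_iso eP.symm (isQCohD_lpull f hP)
  let ι := (DCoh.IsQCohD (X := X)).ι
  let ι' := (DCoh.IsQCohD (X := Y)).ι
  let adj := DCoh.shriekAdj f h
  let A := (DCoh.shriek f h).obj ⟨(DCoh.RSheafHom P).obj G₂.obj, hq⟩
  let B : DCoh.DQCoh X := ⟨(DCoh.RSheafHom P').obj ((DCoh.shriek f h).obj G₂).obj, hq'⟩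
  let T : DCoh.DQCoh X ⥤ DCoh.DQCoh X :=
    ObjectProperty.lift DCoh.IsQCohD (ι ⋙ DCoh.LTensorCx P') fun W => isQCohD_ltensor P' hP'q W.property
  let e : ∀ W : DCoh.DQCoh X, (W ⟶ A) ≃ (W ⟶ B) := fun W =>
    (adj.homEquiv _ _).symm.trans <| (homEquivFS _ _).trans <|
      ((DCoh.RSheafHomAdj P).homEquiv _ _).symm.trans <| (π.app W).homFromEquiv.trans <|
        (homEquivFS ((DCoh.RpushQ f h).obj (T.obj W)) G₂).symm.trans <| (adj.homEquiv _ _).trans <|
          (homEquivFS _ _).trans <| ((DCoh.RSheafHomAdj P').homEquiv _ _).trans (homEquivFS W B).symm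
  have hnat : ∀ (W W' : DCoh.DQCoh X) (g : W' ⟶ W) (φ : W ⟶ A), e W' (g ≫ φ) = g ≫ e W φ := by
    intro W W' g φ
    apply ObjectProperty.hom_ext
    have hπ := π.inv.naturality g
    simp only [Functor.comp_map] at hπ
    show (DCoh.RSheafHomAdj P').homEquiv _ _ ((adj.homEquiv (T.obj W') G₂
        (ObjectProperty.homMk (π.inv.app W' ≫ ((DCoh.RSheafHomAdj P).homEquiv _ _).symm
          ((adj.homEquiv W' ⟨(DCoh.RSheafHom P).obj G₂.obj, hq⟩).symm (g ≫ φ)).hom))).hom) =
      g.hom ≫ (DCoh.RSheafHomAdj P').homEquiv _ _ ((adj.homEquiv (T.obj W) G₂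
        (ObjectProperty.homMk (π.inv.app W ≫ ((DCoh.RSheafHomAdj P).homEquiv _ _).symm
          ((adj.homEquiv W ⟨(DCoh.RSheafHom P).obj G₂.obj, hq⟩).symm φ).hom))).hom)
    refine Eq.trans ?_ ((DCoh.RSheafHomAdj P').homEquiv_naturality_left g.hom _)
    refine congrArg ((DCoh.RSheafHomAdj P').homEquiv _ _) ?_
    refine Eq.trans (congrArg (fun t : T.obj W' ⟶ (DCoh.shriek f h).obj G₂ => t.hom) ?_)
      (ι.map_comp (T.map g) (adj.homEquiv (T.obj W) G₂ _))
    rw [← adj.homEquiv_naturality_left]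
    refine congrArg (adj.homEquiv _ _) ?_
    apply ObjectProperty.hom_ext
    have h₁ := congrArg (fun t : (DCoh.RpushQ f h).obj W' ⟶ (⟨(DCoh.RSheafHom P).obj G₂.obj, hq⟩ : DCoh.DQCoh Y) => t.hom)
      (adj.homEquiv_naturality_left_symm g φ)
    refine (congrArg (fun t => π.inv.app W' ≫ ((DCoh.RSheafHomAdj P).homEquiv _ _).symm t) h₁).trans ?_
    refine (congrArg (π.inv.app W' ≫ ·) ((DCoh.RSheafHomAdj P).homEquiv_naturality_left_symm _ _)).trans ?_
    exact ((Category.assoc _ _ _).symm.trans (congrArg (· ≫ _) hπ.symm)).trans (Category.assoc _ _ _)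
  let α : yoneda.obj A ≅ yoneda.obj B := NatIso.ofComponents (fun W => (e W.unop).toIso) fun {W W'} g => by
    ext φ
    exact hnat _ _ g.unop φ
  exact ⟨ι.mapIso (Yoneda.fullyFaithful.preimageIso α)⟩

end Groth.Agent.DualTwist
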